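import Mathlib.FieldTheory.Finite.Basic
import Mathlib.Algebra.Polynomial.Module.AEval
import Mathlib.RingTheory.IntegralDomain
import Mathlib.RingTheory.AdjoinRoot

/-! # The field of `p ^ a` elements as a module for a `q`-th root of unity -/

set_option linter.style.haveILetI false
set_option linter.unusedSectionVars false

namespace Cfsg.Agent.FGS4.SchmidtUniversal

open Polynomial

/-- The exponent by which the universal group exceeds its top layer. -/
def extra (a : ℕ) : ℕ := if a % 2 = 1 then 0 else a / 2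

theorem add_extra (a : ℕ) : a + extra a = if a % 2 = 1 then a else 3 * a / 2 := by
  unfold extra; split <;> omega

variable {p q : ℕ} [hp : Fact p.Prime] [hq : Fact q.Prime]

theorem orderOf_pos_of_ne (hpq : p ≠ q) : 0 < orderOf (p : ZMod q) := by
  have h0 : (p : ZMod q) ≠ 0 := fun h =>
    hpq (((Nat.prime_dvd_prime_iff_eq hq.out hp.out).1 ((ZMod.natCast_eq_zero_iff _ _).1 h)).symm)
  exact orderOf_pos_iff.2 (isOfFinOrder_iff_pow_eq_one.2
    ⟨q - 1, Nat.sub_pos_of_lt hq.out.one_lt, ZMod.pow_card_sub_one_eq_one h0⟩)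

theorem dvd_pow_sub_one_iff {k : ℕ} : q ∣ p ^ k - 1 ↔ orderOf (p : ZMod q) ∣ k := by
  rw [orderOf_dvd_iff_pow_eq_one, ← ZMod.natCast_eq_zero_iff,
    Nat.cast_sub (Nat.one_le_pow _ _ hp.out.pos), Nat.cast_pow, Nat.cast_one, sub_eq_zero]

variable {K : Type*} [Field K] [Finite K] [CharP K p] [Algebra (ZMod p) K] {a : ℕ}
  (hK : Nat.card K = p ^ a) (ha : a = orderOf (p : ZMod q))

include hK ha

theorem dvd_card_units : q ∣ Nat.card Kˣ := by
  rw [Nat.card_units, hK]; exact dvd_pow_sub_one_iff.2 (ha ▸ dvd_rfl)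

theorem aeval_surjective {ζ : K} (h1 : ζ ≠ 1) (hζ : ζ ^ q = 1) :
    Function.Surjective (aeval ζ : (ZMod p)[X] →ₐ[ZMod p] K) := by
  set R := (aeval ζ : (ZMod p)[X] →ₐ[ZMod p] K).range with hR
  haveI : Finite R := Subtype.finite
  letI := Fintype.ofFinite R
  letI : Field R := (Finite.isField_of_domain R).toField
  haveI : CharP R p := charP_of_injective_algebraMap (algebraMap (ZMod p) R).injective p
  obtain ⟨j, -, hj⟩ := FiniteField.card R p
  let z : R := ⟨ζ, X, aeval_X ζ⟩
  have hz : orderOf z = q := orderOf_eq_prime (Subtype.ext (by simpa using hζ))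
    (fun h => h1 (congrArg Subtype.val h))
  have hz0 : z ≠ 0 := fun h => by
    have : z ^ q = 1 := hz ▸ pow_orderOf_eq_one z
    rw [h, zero_pow hq.out.ne_zero] at this
    exact zero_ne_one this
  have hd : q ∣ p ^ (j : ℕ) - 1 := by
    rw [← hj, ← hz]
    exact orderOf_dvd_of_pow_eq_one (FiniteField.pow_card_sub_one_eq_one z hz0)
  have haj : a ≤ j := by
    rw [ha]; exact Nat.le_of_dvd j.pos (dvd_pow_sub_one_iff.1 hd)
  have hcard : Nat.card K ≤ Nat.card R := by
    rw [hK, Nat.card_eq_fintype_card, hj]; exact Nat.pow_le_pow_right hp.out.pos haj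
  intro x
  have hs : Function.Surjective (Subtype.val : R → K) :=
    (Subtype.val_injective.bijective_of_nat_card_le hcard).2
  obtain ⟨⟨y, hy⟩, rfl⟩ := hs x
  exact hy

theorem invariant_eq_bot_or_top {ζ : K} (h1 : ζ ≠ 1) (hζ : ζ ^ q = 1) (W : AddSubgroup K)
    (hW : ∀ w ∈ W, ζ * w ∈ W) : W = ⊥ ∨ W = ⊤ := by
  rw [or_iff_not_imp_left]
  intro hne
  obtain ⟨w, hw, hw0⟩ : ∃ w ∈ W, w ≠ 0 := by
    by_contra h
    push Not at h
    exact hne (AddSubgroup.eq_bot_iff_forall W |>.2 h)
  rw [eq_top_iff]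
  intro x _
  obtain ⟨g, hg⟩ := aeval_surjective hK ha h1 hζ (x * w⁻¹)
  have key : ∀ g : (ZMod p)[X], ∀ v ∈ W, aeval ζ g * v ∈ W := by
    intro g
    induction g using Polynomial.induction_on with
    | C c =>
      intro v hv
      rw [aeval_C, ← Algebra.smul_def, ← ZMod.natCast_zmod_val c, Nat.cast_smul_eq_nsmul]
      exact nsmul_mem hv _
    | add g g' hg hg' => intro v hv; rw [map_add, add_mul]; exact add_mem (hg v hv) (hg' v hv)
    | monomial n c h =>
      intro v hv
      rw [pow_succ, ← mul_assoc, map_mul, aeval_X, mul_assoc]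
      exact h _ (hW v hv)
  have := key g w hw
  rwa [hg, inv_mul_cancel_right₀ hw0] at this

/-- Biadditive alternating maps invariant under a `q`-th root of unity have small image. -/
theorem card_range_le {T : Type*} [AddCommGroup T] (β : K →+ K →+ T) {ζ : K} (h1 : ζ ≠ 1) (hζ : ζ ^ q = 1)
    (halt : ∀ x, β x x = 0) (hinv : ∀ x y, β (ζ * x) (ζ * y) = β x y) :
    Nat.card (β 1).range ≤ p ^ extra a ∧ ∀ x y, β x y ∈ (β 1).range := by
  have hζ0 : ζ ≠ 0 := fun h => by rw [h, zero_pow hq.out.ne_zero] at hζ; exact zero_ne_one hζ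
  have key : ∀ g : (ZMod p)[X], ∀ x y, β (aeval ζ g * x) y = β x (aeval ζ⁻¹ g * y) := by
    intro g
    induction g using Polynomial.induction_on with
    | C c =>
      intro x y
      rw [aeval_C, aeval_C, ← Algebra.smul_def, ← Algebra.smul_def, ← ZMod.natCast_zmod_val c,
        Nat.cast_smul_eq_nsmul, Nat.cast_smul_eq_nsmul, map_nsmul, AddMonoidHom.nsmul_apply, map_nsmul]
    | add g g' hg hg' =>
      intro x y
      rw [map_add, map_add, add_mul, add_mul, map_add, AddMonoidHom.add_apply, hg, hg', map_add]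
    | monomial n c h =>
      intro x y
      rw [pow_succ, ← mul_assoc, map_mul (aeval ζ), map_mul (aeval ζ⁻¹), aeval_X, aeval_X,
        mul_comm (aeval ζ (C c * X ^ n)) ζ, mul_comm (aeval ζ⁻¹ (C c * X ^ n)) ζ⁻¹, mul_assoc ζ, mul_assoc ζ⁻¹]
      rw [show ζ * ((aeval ζ) (C c * X ^ n) * x) = (aeval ζ) (C c * X ^ n) * (ζ * x) from mul_left_comm _ _ _, h]
      calc β (ζ * x) ((aeval ζ⁻¹) (C c * X ^ n) * y)
          = β (ζ * x) (ζ * (ζ⁻¹ * ((aeval ζ⁻¹) (C c * X ^ n) * y))) := by rw [mul_inv_cancel_left₀ hζ0]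
        _ = _ := hinv _ _
  by_cases hzero : β = 0
  · subst hzero
    refine ⟨?_, fun x y => ⟨0, by simp⟩⟩
    rw [AddMonoidHom.zero_apply, AddMonoidHom.range_zero, AddSubgroup.card_bot]
    exact Nat.one_le_pow _ _ hp.out.pos
  obtain ⟨x₀, y₀, hxy⟩ : ∃ x y, β x y ≠ 0 := by
    by_contra h
    push Not at h
    exact hzero (by ext x y; exact h x y)
  have hroot : ∀ g : (ZMod p)[X], aeval ζ g = 0 → aeval ζ⁻¹ g = 0 := by
    intro g hg
    by_contra h
    have h2 := key g x₀ ((aeval ζ⁻¹ g)⁻¹ * y₀)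
    rw [hg, zero_mul, map_zero, AddMonoidHom.zero_apply, mul_inv_cancel_left₀ h] at h2
    exact hxy h2.symm
  have hsur := aeval_surjective hK ha h1 hζ
  -- the ring endomorphism sending `ζ` to its inverse
  let τ : K →+* K := RingHom.liftOfSurjective (aeval ζ : (ZMod p)[X] →ₐ[ZMod p] K).toRingHom hsur
    ⟨(aeval ζ⁻¹ : (ZMod p)[X] →ₐ[ZMod p] K).toRingHom, fun g hg => hroot g hg⟩
  have hσ : ∀ g, τ (aeval ζ g) = aeval ζ⁻¹ g := fun g =>
    RingHom.liftOfRightInverse_comp_apply _ _ _ _ g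
  have hτζ : τ ζ = ζ⁻¹ := by
    have := hσ X
    rwa [aeval_X, aeval_X] at this
  have hτ2 : ∀ x, τ (τ x) = x := by
    intro x
    obtain ⟨g, rfl⟩ := hsur x
    have h : (τ.comp τ).comp (aeval ζ : (ZMod p)[X] →ₐ[ZMod p] K).toRingHom =
        (aeval ζ : (ZMod p)[X] →ₐ[ZMod p] K).toRingHom := by
      refine Polynomial.ringHom_ext' (RingHom.ext_zmod _ _) ?_
      show τ (τ (aeval ζ X)) = aeval ζ X
      rw [aeval_X, hτζ, map_inv₀, hτζ, inv_inv]
    exact RingHom.congr_fun h g
  have hform : ∀ x y, β x y = β 1 (τ x * y) := by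
    intro x y
    obtain ⟨g, rfl⟩ := hsur x
    rw [hσ g, ← key, mul_one]
  refine ⟨?_, fun x y => ⟨τ x * y, (hform x y).symm⟩⟩
  set φ := β 1 with hφ
  have hsum : ∀ x, φ (x + τ x) = 0 := by
    intro x
    have h := halt (x + 1)
    rw [map_add β, AddMonoidHom.add_apply, map_add (β x), map_add (β 1), halt, halt, zero_add, add_zero,
      hform x 1, mul_one] at h
    rw [map_add]; rwa [add_comm] at h
  have hne : ∃ x, τ x ≠ x := by
    by_contra hid
    push Not at hid
    have hζ2 : ζ ^ 2 = 1 := by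
      have h := hid ζ
      rw [hτζ] at h
      rw [pow_two]; nth_rewrite 1 [← h]; rw [inv_mul_cancel₀ hζ0]
    have h2 : (2 : ℕ).Coprime p := by
      refine (Nat.coprime_primes Nat.prime_two hp.out).2 ?_
      intro e
      haveI : CharP K 2 := e ▸ inferInstance
      rcases sq_eq_one_iff.1 hζ2 with h | h
      · exact h1 h
      · exact h1 (h.trans (CharTwo.neg_eq 1))
    refine hxy ?_
    have e2 : (2 : ℕ) • β x₀ y₀ = 0 := by
      have h := hsum (x₀ * y₀)
      rw [hid, map_add] at h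
      rw [two_nsmul, hform, hid]; exact h
    have ep : p • β x₀ y₀ = 0 := by
      rw [← map_nsmul, nsmul_eq_mul, CharP.cast_eq_zero, zero_mul, map_zero]
    rw [← AddMonoid.addOrderOf_eq_one_iff]
    exact Nat.eq_one_of_dvd_coprimes h2 (addOrderOf_dvd_of_nsmul_eq_zero e2)
      (addOrderOf_dvd_of_nsmul_eq_zero ep)
  -- the fixed field
  set F := τ.eqLocusField (RingHom.id K) with hF
  have hmemF : ∀ x, x ∈ F ↔ τ x = x := fun x => Iff.rfl
  haveI : Finite F := Subtype.finite
  letI := Fintype.ofFinite F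
  haveI : CharP F p := charP_of_injective_ringHom F.subtype.injective p |> fun _ =>
    RingHom.charP F.subtype F.subtype.injective p
  obtain ⟨j, -, hj⟩ := FiniteField.card F p
  have hcardF : Nat.card F = p ^ (j : ℕ) := by rw [Nat.card_eq_fintype_card, hj]
  set s : K →+ K := AddMonoidHom.id K + τ.toAddMonoidHom with hs
  have hsx : ∀ x, s x = x + τ x := fun x => rfl
  have hker : Nat.card s.ker ≤ Nat.card F := by
    by_cases hbot : ∀ x ∈ s.ker, x = 0
    · rw [(AddSubgroup.eq_bot_iff_forall _).2 hbot, AddSubgroup.card_bot]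
      exact Nat.card_pos
    push Not at hbot
    obtain ⟨x1, hx1, hx10⟩ := hbot
    have h0 : ∀ x ∈ s.ker, τ x = -x := fun x hx =>
      eq_neg_of_add_eq_zero_right (by rw [← hsx]; exact hx)
    refine Nat.card_le_card_of_injective (fun x : s.ker => (⟨(x : K) * x1⁻¹, ?_⟩ : F)) ?_
    · rw [hmemF, map_mul, map_inv₀, h0 _ x.2, h0 _ hx1, inv_neg, neg_mul_neg]
    · intro x y h
      exact Subtype.ext (mul_right_cancel₀ (inv_ne_zero hx10) (congrArg Subtype.val h))
  have him : Nat.card s.range ≤ Nat.card F := by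
    refine Nat.card_le_card_of_injective (fun x : s.range => (⟨x, ?_⟩ : F))
      fun x y h => Subtype.ext (congrArg (fun z : F => (z : K)) h)
    obtain ⟨_, z, rfl⟩ := x
    rw [hmemF]
    show τ (s z) = s z
    rw [hsx, map_add, hτ2, add_comm]
  have hprod : Nat.card s.ker * Nat.card s.range = p ^ a := by
    rw [← hK, ← AddSubgroup.index_ker, AddSubgroup.card_mul_index]
  have h1j : a ≤ 2 * (j : ℕ) := by
    have h := Nat.mul_le_mul hker him
    rw [hprod, hcardF, ← pow_add] at h
    have := (Nat.pow_le_pow_iff_right hp.out.one_lt).1 h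
    omega
  have h2j : 2 * (j : ℕ) ≤ a := by
    have hd : Nat.card K = Nat.card F ^ Module.finrank F K := Module.natCard_eq_pow_finrank
    rw [hK, hcardF, ← pow_mul] at hd
    have hd' := Nat.pow_right_injective hp.out.two_le hd
    have hd2 : 2 ≤ Module.finrank F K := by
      by_contra hlt
      have hpos : 0 < Module.finrank F K := Module.finrank_pos
      rw [show Module.finrank F K = 1 by omega, mul_one] at hd'
      obtain ⟨x, hx⟩ := hne
      have hsj : Function.Surjective F.subtype :=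
        (F.subtype.injective.bijective_of_nat_card_le (by rw [hK, hcardF, hd'])).2
      obtain ⟨⟨y, hy⟩, rfl⟩ := hsj x
      exact hx hy
    rw [hd', mul_comm 2]; exact Nat.mul_le_mul_left _ hd2
  have ha2 : extra a = (j : ℕ) := by unfold extra; split <;> omega
  rw [ha2]
  have hle : s.range ≤ φ.ker := by
    rintro _ ⟨x, rfl⟩
    exact hsum x
  have hφc : Nat.card φ.ker * Nat.card φ.range = p ^ a := by
    rw [← hK, ← AddSubgroup.index_ker, AddSubgroup.card_mul_index]
  have hge : p ^ (j : ℕ) ≤ Nat.card s.range := by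
    by_contra hlt
    rw [not_le] at hlt
    have := Nat.mul_lt_mul_of_le_of_lt (hker.trans hcardF.le) hlt (pow_pos hp.out.pos _)
    rw [hprod, ← pow_add] at this
    have := (Nat.pow_lt_pow_iff_right hp.out.one_lt).1 this
    omega
  have h3 := (hge.trans (Nat.card_mono (Set.toFinite _) hle))
  have h4 : p ^ (j : ℕ) * Nat.card φ.range ≤ p ^ (j : ℕ) * p ^ (j : ℕ) := by
    rw [← pow_add, show (j : ℕ) + j = a by omega, ← hφc]
    exact Nat.mul_le_mul_right _ h3
  exact Nat.le_of_mul_le_mul_left h4 (pow_pos hp.out.pos _)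

end Cfsg.Agent.FGS4.SchmidtUniversal
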