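import Cfsg.Agent.FGS4.SchmidtUniversal.Structure
import Mathlib.Algebra.CharP.Frobenius

/-! # Heisenberg groups over the field of `p ^ a` elements -/

set_option linter.style.haveILetI false
set_option linter.unusedSectionVars false

namespace Cfsg.Agent.FGS4.SchmidtUniversal

universe u

/-- The central extension of `K` by `T` along a biadditive map. -/
@[ext]
structure Heis {K T : Type u} [AddCommGroup K] [AddCommGroup T] (β : K →+ K →+ T) : Type u where
  /-- top layer -/
  v : K
  /-- central layer -/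
  t : T

namespace Heis

variable {K T : Type u} [AddCommGroup K] [AddCommGroup T] {β : K →+ K →+ T}

instance : Mul (Heis β) := ⟨fun x y => ⟨x.v + y.v, x.t + y.t + β x.v y.v⟩⟩
instance : One (Heis β) := ⟨⟨0, 0⟩⟩
instance : Inv (Heis β) := ⟨fun x => ⟨-x.v, -x.t + β x.v x.v⟩⟩

theorem mul_v (x y : Heis β) : (x * y).v = x.v + y.v := rfl
theorem mul_t (x y : Heis β) : (x * y).t = x.t + y.t + β x.v y.v := rfl
theorem one_v : (1 : Heis β).v = 0 := rfl
theorem one_t : (1 : Heis β).t = 0 := rfl
theorem inv_v (x : Heis β) : x⁻¹.v = -x.v := rfl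
theorem inv_t (x : Heis β) : x⁻¹.t = -x.t + β x.v x.v := rfl

instance : Group (Heis β) :=
  Group.ofLeftAxioms
    (fun x y z => by
      ext
      · simp only [mul_v]; abel
      · simp only [mul_t, mul_v, map_add, AddMonoidHom.add_apply]; abel)
    (fun x => by ext <;> simp [mul_v, mul_t, one_v, one_t])
    (fun x => by
      ext
      · simp [mul_v, inv_v, one_v]
      · simp only [mul_t, inv_t, inv_v, one_t, map_neg, AddMonoidHom.neg_apply]; abel)

/-- The underlying set. -/
def equivProd : Heis β ≃ K × T where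
  toFun x := (x.v, x.t)
  invFun x := ⟨x.1, x.2⟩
  left_inv _ := rfl
  right_inv _ := rfl

instance [Finite K] [Finite T] : Finite (Heis β) := Finite.of_equiv _ equivProd.symm

theorem card_eq : Nat.card (Heis β) = Nat.card K * Nat.card T := by
  rw [Nat.card_congr equivProd, Nat.card_prod]

/-- Projection on the top layer. -/
def proj : Heis β →* Multiplicative K :=
  MonoidHom.mk' (fun x => Multiplicative.ofAdd x.v) fun _ _ => rfl

end Heis

open Subgroup
open scoped commutatorElement

variable {p q : ℕ} [hp : Fact p.Prime] [hq : Fact q.Prime]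
  {K : Type u} [Field K] [Finite K] [CharP K p] [Algebra (ZMod p) K] {a : ℕ}
  (hK : Nat.card K = p ^ a) (ha : a = orderOf (p : ZMod q))

include hK ha

theorem exists_form {ζ : K} (h1 : ζ ≠ 1) (hζ : ζ ^ q = 1) :
    ∃ (T : Type u) (_ : AddCommGroup T) (_ : Finite T) (β : K →+ K →+ T),
      (∀ x y, β (ζ * x) (ζ * y) = β x y) ∧ (∀ t, ∃ x y, β x y - β y x = t) ∧
      Nat.card T = p ^ extra a := by
  by_cases hodd : a % 2 = 1
  · refine ⟨PUnit, inferInstance, inferInstance, 0, fun _ _ => rfl, fun t => ⟨0, 0, rfl⟩, ?_⟩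
    rw [extra, if_pos hodd, pow_zero, Nat.card_unique]
  obtain ⟨m, hm⟩ : ∃ m, a = 2 * m := ⟨a / 2, by omega⟩
  have ha0 : a ≠ 0 := fun h => by
    have := Finite.one_lt_card (α := K)
    rw [hK, h, pow_zero] at this; exact lt_irrefl _ this
  have hm0 : m ≠ 0 := by omega
  have hext : extra a = m := by rw [extra, if_neg hodd]; omega
  haveI : Fact p.Prime := hp
  letI := Fintype.ofFinite K
  haveI : ExpChar K p := ExpChar.prime hp.out
  set τ : K →+* K := iterateFrobenius K p m with hτ
  have hτx : ∀ x, τ x = x ^ p ^ m := fun x => iterateFrobenius_def _ _ _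
  have hτ2 : ∀ x, τ (τ x) = x := fun x => by
    rw [hτx, hτx, ← pow_mul, ← pow_add, ← two_mul, ← hm, ← hK, Nat.card_eq_fintype_card]
    exact FiniteField.pow_card x
  have hζ0 : ζ ≠ 0 := fun h => by rw [h, zero_pow hq.out.ne_zero] at hζ; exact zero_ne_one hζ
  have hord : orderOf ζ = q := orderOf_eq_prime hζ h1
  have hζpm : ζ ^ (p ^ m + 1) = 1 := by
    have hd : q ∣ (p ^ m + 1) * (p ^ m - 1) := by
      rw [← Nat.sq_sub_sq, one_pow, ← pow_mul, mul_comm m 2, ← hm]
      exact dvd_pow_sub_one_iff.2 (ha ▸ dvd_rfl)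
    rcases hq.out.dvd_mul.1 hd with h | h
    · rw [← orderOf_dvd_iff_pow_eq_one, hord]; exact h
    · rw [dvd_pow_sub_one_iff, ← ha] at h
      have := Nat.le_of_dvd (by omega) h
      omega
  have hτζ : τ ζ * ζ = 1 := by rw [hτx, ← pow_succ, hζpm]
  have hτne : τ ζ ≠ ζ := by
    intro h
    have h2 : q ∣ p ^ m - 1 := by
      rw [← hord]
      refine orderOf_dvd_of_pow_eq_one (mul_right_cancel₀ hζ0 ?_)
      rw [← pow_succ, Nat.sub_add_cancel (Nat.one_le_pow _ _ hp.out.pos), ← hτx, h, one_mul]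
    rw [dvd_pow_sub_one_iff, ← ha] at h2
    have := Nat.le_of_dvd (by omega) h2
    omega
  set F := τ.eqLocusField (RingHom.id K) with hF
  have hmemF : ∀ x, x ∈ F ↔ τ x = x := fun x => Iff.rfl
  haveI : Finite F := Subtype.finite
  letI := Fintype.ofFinite F
  haveI : CharP F p := RingHom.charP F.subtype F.subtype.injective p
  obtain ⟨j, -, hj⟩ := FiniteField.card F p
  have hcardF : Nat.card F = p ^ (j : ℕ) := by rw [Nat.card_eq_fintype_card, hj]
  set d := ζ - τ ζ with hd
  have hd0 : d ≠ 0 := sub_ne_zero.2 hτne.symm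
  let bfun : K → K → K := fun x y => ζ * τ x * y + τ ζ * x * τ y
  have hbF : ∀ x y, bfun x y ∈ F := fun x y => by
    rw [hmemF]
    simp only [bfun, map_add, map_mul, hτ2]
    ring
  let β : K →+ K →+ F := AddMonoidHom.mk'
    (fun x => AddMonoidHom.mk' (fun y => ⟨bfun x y, hbF x y⟩) fun y z => Subtype.ext (by
      show bfun x (y + z) = bfun x y + bfun x z
      simp only [bfun, map_add]; ring))
    fun x w => AddMonoidHom.ext fun y => Subtype.ext (by
      show bfun (x + w) y = bfun x y + bfun w y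
      simp only [bfun, map_add]; ring)
  -- the values of the commutator form
  let g : K →+ K := AddMonoidHom.mk' (fun x => d * (τ x - x)) fun x y => by rw [map_add]; ring
  have hgval : ∀ x, ((β x 1 - β 1 x : F) : K) = g x := fun x => by
    show bfun x 1 - bfun 1 x = d * (τ x - x)
    simp only [bfun, map_one, hd]; ring
  have hker : Nat.card g.ker ≤ Nat.card F := by
    refine Nat.card_le_card_of_injective (fun x : g.ker => (⟨(x : K), ?_⟩ : F))
      fun x y h => Subtype.ext (congrArg (fun z : F => (z : K)) h)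
    have hx : d * (τ (x : K) - x) = 0 := x.2
    rw [hmemF]; exact sub_eq_zero.1 ((mul_eq_zero.1 hx).resolve_left hd0)
  let emb : g.range → F := fun x => ⟨(x : K), by
    obtain ⟨z, hz⟩ := x.2
    rw [hmemF, ← hz]
    show τ (d * (τ z - z)) = d * (τ z - z)
    rw [map_mul, map_sub, hτ2, hd, map_sub, hτ2]; ring⟩
  have hembinj : Function.Injective emb := fun x y h => Subtype.ext (congrArg (fun z : F => (z : K)) h)
  have hprod : Nat.card g.ker * Nat.card g.range = p ^ a := by
    rw [← hK, ← AddSubgroup.index_ker, AddSubgroup.card_mul_index]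
  have hj2 : (j : ℕ) ≤ m := by
    have hd' : Nat.card K = Nat.card F ^ Module.finrank F K := Module.natCard_eq_pow_finrank
    rw [hK, hcardF, ← pow_mul] at hd'
    have he := Nat.pow_right_injective hp.out.two_le hd'
    have hd2 : 2 ≤ Module.finrank F K := by
      by_contra hlt
      have hpos : 0 < Module.finrank F K := Module.finrank_pos
      rw [show Module.finrank F K = 1 by omega, mul_one] at he
      have hsj : Function.Surjective F.subtype :=
        (F.subtype.injective.bijective_of_nat_card_le (by rw [hK, hcardF, he])).2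
      obtain ⟨⟨y, hy⟩, hyz⟩ := hsj ζ
      exact hτne (hyz ▸ hy)
    have := Nat.mul_le_mul_left (j : ℕ) hd2
    omega
  have hcardg : Nat.card g.ker * Nat.card g.range ≤ Nat.card F * Nat.card F :=
    Nat.mul_le_mul hker (Nat.card_le_card_of_injective emb hembinj)
  have hjm : (j : ℕ) = m := by
    rw [hprod, hcardF, ← pow_add] at hcardg
    have := (Nat.pow_le_pow_iff_right hp.out.one_lt).1 hcardg
    omega
  have hbij : Function.Bijective emb := by
    refine hembinj.bijective_of_nat_card_le ?_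
    by_contra hlt
    rw [not_le] at hlt
    have := Nat.mul_lt_mul_of_le_of_lt hker hlt Nat.card_pos
    rw [hprod, hcardF, ← pow_add, hjm, ← two_mul, ← hm] at this
    exact lt_irrefl _ this
  refine ⟨F, inferInstance, inferInstance, β, fun x y => Subtype.ext ?_, fun t => ?_, ?_⟩
  · show bfun (ζ * x) (ζ * y) = bfun x y
    simp only [bfun, map_mul]
    linear_combination (ζ * τ x * y + τ ζ * x * τ y) * hτζ
  · obtain ⟨⟨_, x, rfl⟩, rfl⟩ := hbij.2 t
    exact ⟨x, 1, Subtype.ext (hgval x)⟩
  · rw [hext, ← hjm, hcardF]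

theorem exists_model {ζ : K} (h1 : ζ ≠ 1) (hζ : ζ ^ q = 1) (hpq : p ≠ q) :
    ∃ (P : Type u) (_ : Group P) (_ : Finite P) (α : MulAut P), IsPGroup p P ∧
      SchmidtSylow.SchmidtAut p α ∧ (∀ x, (α ^ q) x = x) ∧ Nat.card P = p ^ (a + extra a) := by
  obtain ⟨T, iT, iF, β, hinv, hsur, hT⟩ := exists_form hK ha h1 hζ
  haveI := iF
  have hζ0 : ζ ≠ 0 := fun h => by rw [h, zero_pow hq.out.ne_zero] at hζ; exact zero_ne_one hζ
  let α : MulAut (Heis β) :=
    { toFun := fun x => ⟨ζ * x.v, x.t⟩
      invFun := fun x => ⟨ζ⁻¹ * x.v, x.t⟩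
      left_inv := fun x => by ext <;> simp [← mul_assoc, inv_mul_cancel₀ hζ0]
      right_inv := fun x => by ext <;> simp [← mul_assoc, mul_inv_cancel₀ hζ0]
      map_mul' := fun x y => by
        ext
        · simp [Heis.mul_v, mul_add]
        · simp [Heis.mul_t, hinv] }
  have hαv : ∀ x, (α x).v = ζ * x.v := fun x => rfl
  have hαt : ∀ x, (α x).t = x.t := fun x => rfl
  have hαn : ∀ (n : ℕ) (x : Heis β), ((α ^ n) x).v = ζ ^ n * x.v ∧ ((α ^ n) x).t = x.t := by
    intro n
    induction n with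
    | zero => intro x; simp
    | succ n ih =>
      intro x
      rw [pow_succ', MulAut.mul_apply, hαv, hαt, (ih x).1, (ih x).2, pow_succ', mul_assoc]
      exact ⟨rfl, rfl⟩
  have hαq : ∀ x, (α ^ q) x = x := fun x => Heis.ext (by rw [(hαn q x).1, hζ, one_mul]) (hαn q x).2
  have hcard : Nat.card (Heis β) = p ^ (a + extra a) := by rw [Heis.card_eq, hK, hT, pow_add]
  refine ⟨Heis β, inferInstance, inferInstance, α, IsPGroup.of_card hcard, ⟨?_, ⟨q, hq.out, hpq.symm, hαq⟩, ?_⟩,
    hαq, hcard⟩
  swap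
  · refine ⟨⟨1, 0⟩, fun h => h1 ?_⟩
    have := congrArg Heis.v h
    rwa [hαv, mul_one] at this
  intro N hN hαN u hu
  let W : AddSubgroup K := Subgroup.toAddSubgroup' (N.map Heis.proj)
  have hW : ∀ w ∈ W, ζ * w ∈ W := by
    rintro w ⟨x, hx, hxw⟩
    refine ⟨α x, hαN x hx, ?_⟩
    have : x.v = w := congrArg Multiplicative.toAdd hxw
    rw [← this]; rfl
  rcases invariant_eq_bot_or_top hK ha h1 hζ W hW with hb | ht
  · have hu0 : u.v ∈ W := ⟨u, hu, rfl⟩
    rw [hb, AddSubgroup.mem_bot] at hu0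
    exact Heis.ext (by rw [hαv, hu0, mul_zero]) (hαt u)
  · refine absurd (eq_top_iff.2 fun x _ => ?_) hN
    obtain ⟨y, hy, hyx⟩ : x.v ∈ W := ht ▸ AddSubgroup.mem_top _
    have hyv : y.v = x.v := congrArg Multiplicative.toAdd hyx
    obtain ⟨s, s', hss⟩ := hsur ((y⁻¹ * x).t)
    obtain ⟨e, he, hes⟩ : s ∈ W := ht ▸ AddSubgroup.mem_top _
    obtain ⟨e', he', hes'⟩ : s' ∈ W := ht ▸ AddSubgroup.mem_top _
    have hev : e.v = s := congrArg Multiplicative.toAdd hes
    have hev' : e'.v = s' := congrArg Multiplicative.toAdd hes'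
    have hz : y⁻¹ * x = (e' * e)⁻¹ * (e * e') := by
      ext
      · simp only [Heis.mul_v, Heis.inv_v, hyv]; abel
      · rw [← hss]
        simp only [Heis.mul_t, Heis.inv_t, Heis.mul_v, Heis.inv_v, hev, hev', map_neg, map_add,
          AddMonoidHom.neg_apply, AddMonoidHom.add_apply]
        abel
    have hxN := mul_mem hy (hz.symm ▸ mul_mem (inv_mem (mul_mem he' he)) (mul_mem he he'))
    rwa [mul_inv_cancel_left] at hxN

end Cfsg.Agent.FGS4.SchmidtUniversal
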