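import Cfsg.Agent.FGS4.SchmidtUniversal.Minimal
import Cfsg.Agent.FGS4.SchmidtUniversal.Model
import Cfsg.Agent.PLocal.ElemAb
import Mathlib.FieldTheory.Finite.GaloisField
import Mathlib.Algebra.Field.ULift

/-! # The universal minimal non-`p`-nilpotent group -/

set_option linter.style.haveILetI false
set_option linter.unusedSectionVars false

namespace Cfsg.Agent.FGS4.SchmidtUniversal

open Subgroup Cfsg

universe u

variable {p q : ℕ} [hp : Fact p.Prime] [hq : Fact q.Prime]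
  {K : Type u} [Field K] [Finite K] [CharP K p] [Algebra (ZMod p) K] {a : ℕ}
  (hK : Nat.card K = p ^ a) (ha : a = orderOf (p : ZMod q))

theorem orderOf_root {K : Type*} [Field K] {ζ : K} (h1 : ζ ≠ 1) (hζ : ζ ^ q = 1) : orderOf ζ = q :=
  orderOf_eq_prime hζ h1

theorem shape_pow {P : Type*} [Group P] {α : MulAut P} {π : P →* Multiplicative K} {ζ : K}
    (h : Shape p a α π ζ) (n : ℕ) (x : P) :
    Multiplicative.toAdd (π ((α ^ n) x)) = ζ ^ n * Multiplicative.toAdd (π x) := by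
  induction n with
  | zero => simp
  | succ n ih => rw [pow_succ', MulAut.mul_apply, h.act, ih, pow_succ', mul_assoc]

theorem inr_pow_apply {P : Type*} [Group P] (n : ℕ) [NeZero n] (α : MulAut P) (h : α ^ n = 1) (i : ℕ)
    (u : P) :
    (SemidirectProduct.inr (Multiplicative.ofAdd (1 : ZMod n)) : P ⋊[actHom n α h] Multiplicative (ZMod n)) ^ i *
        SemidirectProduct.inl u *
        ((SemidirectProduct.inr (Multiplicative.ofAdd (1 : ZMod n)) : P ⋊[actHom n α h] Multiplicative (ZMod n)) ^ i)⁻¹ =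
      SemidirectProduct.inl ((α ^ i) u) := by
  rw [← map_pow, ← map_inv, ← SemidirectProduct.inl_aut]
  congr 1
  show (α ^ (Multiplicative.toAdd ((Multiplicative.ofAdd (1 : ZMod n)) ^ i)).val) u = _
  rw [toAdd_pow, toAdd_ofAdd, nsmul_one, ZMod.val_natCast, ← pow_eq_pow_mod _ h]

include hK ha in
/-- The covering statement for one group `X`. -/
theorem exists_cover (hpq : p ≠ q) (r : ℕ) (hr : 1 ≤ r) [NeZero (q ^ r)] {P₀ : Type u} [Group P₀] [Finite P₀]
    (hP₀ : IsPGroup p P₀) {α₀ : MulAut P₀} (hα₀ : SchmidtSylow.SchmidtAut p α₀)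
    (hq₀ : ∀ x, (α₀ ^ q) x = x) (hc₀ : Nat.card P₀ = p ^ (a + extra a)) (h₀ : α₀ ^ q ^ r = 1)
    {X : Type u} [Group X] [Finite X] (hX : MinNon p X) {t : ℕ} (ht : Nat.card X = p ^ t * q ^ r) :
    ∃ φ : (P₀ ⋊[actHom (q ^ r) α₀ h₀] Multiplicative (ZMod (q ^ r))) →* X, Function.Surjective φ ∧
      φ.ker ≤ Subgroup.center _ := by
  obtain ⟨P, hPn, y, hPp, hPc, hy, hαX, hqX, htop⟩ := exists_data hpq hX ht
  haveI := hPn
  set αX : MulAut P := MulAut.conjNormal y with hαXd
  obtain ⟨πX, ζX, hX1, hXq, sX⟩ := exists_shape hK ha hαX hPp hqX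
  obtain ⟨π₀, ζ₀, h01, h0q, s₀⟩ := exists_shape hK ha hα₀ hP₀ hq₀
  obtain ⟨i, hiq, hi⟩ := (IsPrimitiveRoot.iff_orderOf.2 (orderOf_root h01 h0q)).eq_pow_of_pow_eq_one hXq
  have hi0 : ¬ q ∣ i := by
    intro hd
    rw [Nat.eq_zero_of_dvd_of_lt hd hiq, pow_zero] at hi
    exact hX1 hi.symm
  set G0 := P₀ ⋊[actHom (q ^ r) α₀ h₀] Multiplicative (ZMod (q ^ r)) with hG0
  haveI : Finite G0 := Finite.of_equiv _ SemidirectProduct.equivProd.symm
  -- pairs with the same top layer
  let M : Subgroup (P₀ × P) := (π₀.comp (MonoidHom.fst P₀ P)).eqLocus (πX.comp (MonoidHom.snd P₀ P))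
  have hM : ∀ x, x ∈ M ↔ π₀ x.1 = πX x.2 := fun x => Iff.rfl
  let β : MulAut (P₀ × P) := MulEquiv.prodCongr (α₀ ^ i) αX
  have hβ : ∀ x, β x = ((α₀ ^ i) x.1, αX x.2) := fun x => rfl
  have hβn : ∀ (n : ℕ) x, (β ^ n) x = (((α₀ ^ i) ^ n) x.1, (αX ^ n) x.2) := by
    intro n
    induction n with
    | zero => intro x; rfl
    | succ n ih => intro x; rw [pow_succ', MulAut.mul_apply, ih, hβ, pow_succ', pow_succ']; rfl
  have hact₀ : ∀ x, Multiplicative.toAdd (π₀ ((α₀ ^ i) x)) = ζX * Multiplicative.toAdd (π₀ x) := fun x => by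
    rw [shape_pow s₀, hi]
  have hMinv : ∀ x ∈ M, β x ∈ M := fun x hx => Multiplicative.toAdd.injective (by
    show Multiplicative.toAdd (π₀ ((α₀ ^ i) x.1)) = Multiplicative.toAdd (πX (αX x.2))
    rw [hact₀, sX.act, (hM x).1 hx])
  set Cand : Set (Subgroup (P₀ × P)) :=
    {N | N ≤ M ∧ (∀ x ∈ N, β x ∈ N) ∧ Function.Surjective (fun x : N => π₀ (x : P₀ × P).1)} with hCand
  have hMC : M ∈ Cand := by
    refine ⟨le_rfl, hMinv, fun k => ?_⟩
    obtain ⟨u, hu⟩ := s₀.surj k
    obtain ⟨v, hv⟩ := sX.surj k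
    exact ⟨⟨(u, v), hu.trans hv.symm⟩, hu⟩
  obtain ⟨N, ⟨hNM, hNinv, hNs⟩, hNmin⟩ := (Set.toFinite Cand).exists_minimal ⟨M, hMC⟩
  -- the automorphism of `N`
  have hmap : N.map β.toMonoidHom = N :=
    Subgroup.eq_of_le_of_card_ge (map_le_iff_le_comap.2 fun x hx => hNinv x hx)
      (card_map_of_injective β.injective).ge
  let αN : MulAut N := (β.subgroupMap N).trans (MulEquiv.subgroupCongr hmap)
  have hαN : ∀ x : N, ((αN x : N) : P₀ × P) = β x := fun x => rfl
  have hαNn : ∀ (n : ℕ) (x : N), (((αN ^ n) x : N) : P₀ × P) = (β ^ n) x := by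
    intro n
    induction n with
    | zero => intro x; rfl
    | succ n ih => intro x; rw [pow_succ', MulAut.mul_apply, hαN, ih, ← MulAut.mul_apply, ← pow_succ']
  have hαNq : ∀ x : N, (αN ^ q) x = x := fun x => Subtype.ext (by
    rw [hαNn, hβn]
    refine Prod.ext ?_ (hqX _)
    show ((α₀ ^ i) ^ q) (x : P₀ × P).1 = _
    rw [← pow_mul, mul_comm, pow_mul, show α₀ ^ q = 1 from MulEquiv.ext hq₀, one_pow]; rfl)
  have hfixker : ∀ x ∈ M, π₀ x.1 = 1 → β x = x := by
    intro x hx h1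
    refine Prod.ext ?_ (sX.fixed _ (((hM x).1 hx).symm.trans h1))
    have h2 : ∀ n : ℕ, (α₀ ^ n) x.1 = x.1 := by
      intro n
      induction n with
      | zero => rfl
      | succ n ih => rw [pow_succ', MulAut.mul_apply, ih, s₀.fixed _ h1]
    exact h2 i
  have hNα : SchmidtSylow.SchmidtAut p αN := by
    refine ⟨fun N1 hN1 hinv x hx => ?_, ⟨q, hq.out, hpq.symm, hαNq⟩, ?_⟩
    · let W : AddSubgroup K :=
        Subgroup.toAddSubgroup' (N1.map (π₀.comp ((MonoidHom.fst P₀ P).comp N.subtype)))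
      have hW : ∀ w ∈ W, ζX * w ∈ W := by
        rintro w ⟨z, hz, hzw⟩
        refine ⟨αN z, hinv z hz, ?_⟩
        apply Multiplicative.toAdd.injective
        show Multiplicative.toAdd (π₀ ((α₀ ^ i) (z : P₀ × P).1)) = ζX * w
        rw [hact₀]
        exact congrArg (fun v => ζX * v) (congrArg Multiplicative.toAdd hzw)
      rcases invariant_eq_bot_or_top hK ha hX1 hXq W hW with hb | hT
      · have h1 : Multiplicative.toAdd (π₀ (x : P₀ × P).1) ∈ W := ⟨x, hx, rfl⟩
        rw [hb, AddSubgroup.mem_bot, toAdd_eq_zero] at h1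
        exact Subtype.ext ((hαN x).trans (hfixker _ (hNM x.2) h1))
      · exfalso
        apply hN1
        have hmem : N1.map N.subtype ∈ Cand := by
          refine ⟨(map_subtype_le N1).trans hNM, ?_, fun k => ?_⟩
          · rintro _ ⟨z, hz, rfl⟩
            exact ⟨αN z, hinv z hz, hαN z⟩
          · obtain ⟨z, hz, hzk⟩ : Multiplicative.toAdd k ∈ W := hT ▸ AddSubgroup.mem_top _
            exact ⟨⟨_, mem_map_of_mem _ hz⟩, hzk⟩
        have hle := hNmin hmem (map_subtype_le N1)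
        refine eq_top_iff.2 fun z _ => ?_
        obtain ⟨z', hz', hzz⟩ := hle z.2
        have : z' = z := Subtype.ext hzz
        exact this ▸ hz'
    · obtain ⟨x, hx⟩ := hNs (Multiplicative.ofAdd (1 : K))
      refine ⟨x, fun h => hX1 ?_⟩
      have h1 := congrArg (fun z : N => Multiplicative.toAdd (π₀ (z : P₀ × P).1)) h
      simp only [hαN] at h1
      have h2 : Multiplicative.toAdd (π₀ (x : P₀ × P).1) = 1 := congrArg Multiplicative.toAdd hx
      rw [show ((β (x : P₀ × P))).1 = (α₀ ^ i) (x : P₀ × P).1 from rfl, hact₀, h2, mul_one] at h1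
      exact h1
  have hNp : IsPGroup p N := by
    obtain ⟨k, hk⟩ := IsPGroup.iff_card.1 hP₀
    obtain ⟨k', hk'⟩ := IsPGroup.iff_card.1 hPp
    exact (IsPGroup.of_card (n := k + k') (by rw [Nat.card_prod, hk, hk', pow_add])).to_subgroup N
  have hNc : Nat.card N ≤ p ^ (a + extra a) := by
    obtain ⟨πN, ζN, -, -, sN⟩ := exists_shape hK ha hNα hNp hαNq
    rw [← πN.ker.card_mul_index, Subgroup.index_ker, MonoidHom.range_eq_top.2 sN.surj, Subgroup.card_top,
      Nat.card_congr (Multiplicative.toAdd (α := K)), hK, pow_add, mul_comm (p ^ a)]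
    exact Nat.mul_le_mul_right _ sN.bound
  -- the fibred subgroup
  set y₀ : G0 := SemidirectProduct.inr (Multiplicative.ofAdd (1 : ZMod (q ^ r))) with hy₀
  let j : P₀ × P →* G0 × X := MonoidHom.prodMap SemidirectProduct.inl P.subtype
  let z : G0 × X := (y₀ ^ i, y)
  have hjz : ∀ x, z * j x * z⁻¹ = j (β x) := fun x => Prod.ext (inr_pow_apply _ α₀ h₀ i x.1)
    (MulAut.conjNormal_apply y x.2).symm
  have hy₀o : y₀ ^ q ^ r = 1 := by
    have := pow_card_eq_one' (x := Multiplicative.ofAdd (1 : ZMod (q ^ r)))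
    rw [Nat.card_congr (Multiplicative.toAdd (α := ZMod (q ^ r))), Nat.card_zmod] at this
    rw [hy₀, ← map_pow, this, map_one]
  have hzo : z ^ q ^ r = 1 := Prod.ext (by
      show (y₀ ^ i) ^ q ^ r = 1
      rw [← pow_mul, mul_comm, pow_mul, hy₀o, one_pow])
    (by show y ^ q ^ r = 1; rw [← hy]; exact pow_orderOf_eq_one y)
  set Nj := N.map j with hNj
  set Y := zpowers z ⊔ Nj with hY
  have hYc : Nat.card Y ≤ q ^ r * p ^ (a + extra a) := by
    have hnorm : zpowers z ≤ normalizer (Nj : Set (G0 × X)) := zpowers_le.2 (mem_normalizer_fintype (by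
      rintro _ ⟨x, hx, rfl⟩
      exact ⟨β x, hNinv x hx, (hjz x).symm⟩))
    have h1 := PLocal.card_sup_mul_card_inf hnorm
    have h2 : Nat.card (zpowers z) ≤ q ^ r := by
      rw [Nat.card_zpowers]
      exact Nat.le_of_dvd (pow_pos hq.out.pos r) (orderOf_dvd_of_pow_eq_one hzo)
    have h3 : Nat.card Nj ≤ p ^ (a + extra a) := le_trans (Nat.le_of_dvd Nat.card_pos
      (card_map_dvd N j)) hNc
    calc Nat.card Y ≤ Nat.card Y * Nat.card ↥(zpowers z ⊓ Nj) := Nat.le_mul_of_pos_right _ Nat.card_pos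
      _ = Nat.card (zpowers z) * Nat.card Nj := h1
      _ ≤ _ := Nat.mul_le_mul h2 h3
  let f₀ : Y →* G0 := (MonoidHom.fst G0 X).comp Y.subtype
  let fX : Y →* X := (MonoidHom.snd G0 X).comp Y.subtype
  have hzY : z ∈ Y := mem_sup_left (mem_zpowers z)
  have hjY : ∀ x ∈ N, j x ∈ Y := fun x hx => mem_sup_right (mem_map_of_mem j hx)
  have hcop : i.Coprime (q ^ r) := ((hq.out.coprime_iff_not_dvd.2 hi0).symm).pow_right r
  have hf₀s : Function.Surjective f₀ := by
    rw [← MonoidHom.range_eq_top]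
    obtain ⟨l, hl⟩ := exists_pow_eq_self_of_coprime (x := y₀)
      (hcop.coprime_dvd_right (orderOf_dvd_of_pow_eq_one hy₀o))
    have hinr : y₀ ∈ f₀.range :=
      hl ▸ pow_mem (show y₀ ^ i ∈ f₀.range from ⟨⟨z, hzY⟩, rfl⟩) l
    set N₀ := f₀.range.comap (SemidirectProduct.inl : P₀ →* G0) with hN₀
    have hN₀t : N₀ = ⊤ := by
      by_contra hne
      have hle := s₀.proper N₀ hne fun u hu => by
        show SemidirectProduct.inl (α₀ u) ∈ f₀.range
        rw [show α₀ u = (α₀ ^ 1) u by rw [pow_one], ← inr_pow_apply _ α₀ h₀ 1 u, pow_one, ← hy₀]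
        exact mul_mem (mul_mem hinr hu) (inv_mem hinr)
      obtain ⟨x, hx⟩ := hNs (Multiplicative.ofAdd (1 : K))
      have h1 : π₀ (x : P₀ × P).1 = 1 :=
        hle (show SemidirectProduct.inl (x : P₀ × P).1 ∈ f₀.range from ⟨⟨j x, hjY x x.2⟩, rfl⟩)
      have h2 : π₀ (x : P₀ × P).1 = Multiplicative.ofAdd (1 : K) := hx
      rw [h1] at h2
      exact one_ne_zero (congrArg Multiplicative.toAdd h2).symm
    rw [eq_top_iff]
    intro g _
    rw [← SemidirectProduct.inl_left_mul_inr_right g]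
    refine mul_mem (show g.left ∈ N₀ from hN₀t ▸ mem_top _) ?_
    have : g.right = Multiplicative.ofAdd (1 : ZMod (q ^ r)) ^ (Multiplicative.toAdd g.right).val := by
      apply Multiplicative.toAdd.injective
      rw [toAdd_pow, toAdd_ofAdd, nsmul_one, ZMod.natCast_zmod_val]
    rw [this, map_pow]
    exact pow_mem hinr _
  have hcG : Nat.card G0 = q ^ r * p ^ (a + extra a) := by
    rw [hG0, SemidirectProduct.card, hc₀, Nat.card_congr (Multiplicative.toAdd (α := ZMod (q ^ r))),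
      Nat.card_zmod, mul_comm]
  have hf₀b := hf₀s.bijective_of_nat_card_le (hYc.trans hcG.ge)
  have hfXs : Function.Surjective fX := by
    rw [← MonoidHom.range_eq_top, eq_top_iff, ← htop, sup_le_iff, zpowers_le]
    refine ⟨?_, ⟨⟨z, hzY⟩, rfl⟩⟩
    set N2 := fX.range.comap P.subtype with hN2
    have hN2t : N2 = ⊤ := by
      by_contra hne
      have hle := sX.proper N2 hne fun u hu => by
        show ((αX u : P) : X) ∈ fX.range
        rw [hαXd, MulAut.conjNormal_apply]
        exact mul_mem (mul_mem ⟨⟨z, hzY⟩, rfl⟩ hu) (inv_mem ⟨⟨z, hzY⟩, rfl⟩)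
      obtain ⟨x, hx⟩ := hNs (Multiplicative.ofAdd (1 : K))
      have h1 : πX (x : P₀ × P).2 = 1 :=
        hle (show ((x : P₀ × P).2 : X) ∈ fX.range from ⟨⟨j x, hjY x x.2⟩, rfl⟩)
      have h2 : π₀ (x : P₀ × P).1 = Multiplicative.ofAdd (1 : K) := hx
      rw [(hM _).1 (hNM x.2), h1] at h2
      exact one_ne_zero (congrArg Multiplicative.toAdd h2).symm
    exact fun v hv => (show (⟨v, hv⟩ : P) ∈ N2 from hN2t ▸ mem_top _)
  let e : Y ≃* G0 := MulEquiv.ofBijective f₀ hf₀b
  let φ : G0 →* X := fX.comp e.symm.toMonoidHom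
  have hφs : Function.Surjective φ := hfXs.comp e.symm.surjective
  refine ⟨φ, hφs, fun g hg => ?_⟩
  -- the kernel is a `p`-group
  have hkc : Nat.card φ.ker ∣ p ^ (a + extra a) := by
    have h1 := φ.ker.card_mul_index
    rw [Subgroup.index_ker, MonoidHom.range_eq_top.2 hφs, Subgroup.card_top, hcG, ht, ← mul_assoc,
      mul_comm (q ^ r)] at h1
    exact Dvd.intro _ (Nat.eq_of_mul_eq_mul_right (pow_pos hq.out.pos r) h1)
  have hright : g.right = 1 := by
    rw [← orderOf_eq_one_iff]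
    refine Nat.eq_one_of_dvd_coprimes (((Nat.coprime_primes hp.out hq.out).2 hpq).pow (a + extra a) r) ?_ ?_
    · refine (orderOf_map_dvd (SemidirectProduct.rightHom : G0 →* _) g).trans ?_
      exact (Subgroup.orderOf_dvd_natCard φ.ker hg).trans hkc
    · have := _root_.orderOf_dvd_natCard g.right
      rwa [Nat.card_congr (Multiplicative.toAdd (α := ZMod (q ^ r))), Nat.card_zmod] at this
  have hg' : g = SemidirectProduct.inl g.left := by
    conv_lhs => rw [← SemidirectProduct.inl_left_mul_inr_right g, hright, map_one, mul_one]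
  set U := φ.ker.comap (SemidirectProduct.inl : P₀ →* G0) with hU
  have hgU : g.left ∈ U := show SemidirectProduct.inl g.left ∈ φ.ker from hg' ▸ hg
  have hUinv : ∀ u ∈ U, α₀ u ∈ U := fun u hu => by
    show SemidirectProduct.inl (α₀ u) ∈ φ.ker
    rw [show α₀ u = (α₀ ^ 1) u by rw [pow_one], ← inr_pow_apply _ α₀ h₀ 1 u]
    exact (MonoidHom.normal_ker φ).conj_mem _ hu _
  have hUne : U ≠ ⊤ := by
    intro hUt
    obtain ⟨v, hv⟩ := hαX.nontrivial
    apply hv
    -- `X` is then generated by the image of the cyclic part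
    have hv' : (v : X) ∈ (zpowers (φ y₀) : Subgroup X) := by
      obtain ⟨g, hg2⟩ := hφs (v : X)
      rw [← hg2, ← SemidirectProduct.inl_left_mul_inr_right g, map_mul,
        show φ (SemidirectProduct.inl g.left) = 1 from (hUt ▸ mem_top g.left : g.left ∈ U), one_mul]
      have : g.right = Multiplicative.ofAdd (1 : ZMod (q ^ r)) ^ (Multiplicative.toAdd g.right).val := by
        apply Multiplicative.toAdd.injective
        rw [toAdd_pow, toAdd_ofAdd, nsmul_one, ZMod.natCast_zmod_val]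
      rw [this, map_pow, map_pow]
      exact pow_mem (mem_zpowers _) _
    have hd : orderOf (v : X) ∣ q ^ r := by
      refine orderOf_dvd_of_pow_eq_one ?_
      obtain ⟨l, hl⟩ := hv'
      rw [← hl, ← zpow_natCast, ← zpow_mul, mul_comm, zpow_mul, zpow_natCast, ← map_pow, hy₀o, map_one,
        one_zpow]
    obtain ⟨k, hk⟩ := hPp v
    have h1 : v = 1 := by
      apply Subtype.ext
      refine orderOf_eq_one_iff.1 (Nat.eq_one_of_dvd_coprimes (((Nat.coprime_primes hp.out hq.out).2 hpq).pow k r)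
        (orderOf_dvd_of_pow_eq_one (congrArg Subtype.val hk)) hd)
    rw [h1, map_one]
  have hker := s₀.proper U hUne hUinv hgU
  rw [hg', mem_center_iff]
  intro h
  rw [← SemidirectProduct.inl_left_mul_inr_right h]
  have hfixn : ∀ n : ℕ, (α₀ ^ n) g.left = g.left := by
    intro n
    induction n with
    | zero => rfl
    | succ n ih => rw [pow_succ', MulAut.mul_apply, ih, s₀.fixed _ hker]
  have h1 : SemidirectProduct.inr h.right * SemidirectProduct.inl g.left =
      (SemidirectProduct.inl g.left : G0) * SemidirectProduct.inr h.right := by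
    rw [← mul_inv_eq_iff_eq_mul, ← map_inv, ← SemidirectProduct.inl_aut]
    exact congrArg _ (hfixn _)
  have h2 : (SemidirectProduct.inl h.left : G0) * SemidirectProduct.inl g.left =
      SemidirectProduct.inl g.left * SemidirectProduct.inl h.left := by
    rw [← map_mul, ← map_mul, mem_center_iff.1 (s₀.central hker) h.left]
  rw [mul_assoc, h1, ← mul_assoc, h2, mul_assoc]

theorem universal (p q r : ℕ) [Fact p.Prime] [Fact q.Prime] (hpq : p ≠ q) (hr : 1 ≤ r) (a a₀ : ℕ)
    (ha : a = orderOf (p : ZMod q)) (ha₀ : a₀ = if a % 2 = 1 then a else 3 * a / 2) :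
    ∃ (G₀ : Type u) (_ : Group G₀) (_ : Finite G₀),
      (¬ Cfsg.HasNormalPComplement p G₀ ∧ ∀ K : Subgroup G₀, K ≠ ⊤ → Cfsg.HasNormalPComplement p ↥K) ∧
      Nat.card G₀ = p ^ a₀ * q ^ r ∧
      ∀ (X : Type u) [Group X] [Finite X],
        (¬ Cfsg.HasNormalPComplement p X ∧ ∀ K : Subgroup X, K ≠ ⊤ → Cfsg.HasNormalPComplement p ↥K) →
        (∃ t : ℕ, Nat.card X = p ^ t * q ^ r) →
          ∃ φ : G₀ →* X, Function.Surjective φ ∧ φ.ker ≤ Subgroup.center G₀ := by
  have ha0 : a ≠ 0 := by have := orderOf_pos_of_ne (p := p) (q := q) hpq; omega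
  let K : Type u := ULift.{u} (GaloisField p a)
  haveI : CharP K p := RingHom.charP (ULift.ringEquiv (R := GaloisField p a)).toRingHom
    (ULift.ringEquiv (R := GaloisField p a)).injective p
  letI : Algebra (ZMod p) K := ZMod.algebra K p
  have hK : Nat.card K = p ^ a := by
    rw [Nat.card_congr Equiv.ulift]; exact GaloisField.card p a ha0
  haveI : Finite K := Nat.finite_of_card_ne_zero (hK ▸ pow_ne_zero a (Fact.out : p.Prime).ne_zero)
  haveI := Fintype.ofFinite Kˣ
  obtain ⟨w, hw⟩ := exists_prime_orderOf_dvd_card' (G := Kˣ) q (dvd_card_units hK ha)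
  have hζ : (w : K) ^ q = 1 := by
    rw [← Units.val_pow_eq_pow_val, ← hw, pow_orderOf_eq_one, Units.val_one]
  have hζ1 : (w : K) ≠ 1 := fun h => by
    rw [show w = 1 from Units.ext h, orderOf_one] at hw
    exact (Fact.out : q.Prime).one_lt.ne hw
  obtain ⟨P₀, iG, iF, α₀, hP₀, hα₀, hq₀, hc₀⟩ := exists_model hK ha hζ1 hζ hpq
  haveI : NeZero (q ^ r) := ⟨pow_ne_zero r (Fact.out : q.Prime).ne_zero⟩
  have h₀ : α₀ ^ q ^ r = 1 := by
    obtain ⟨k, hk⟩ := dvd_pow_self q (show r ≠ 0 by omega)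
    rw [hk, pow_mul, show α₀ ^ q = 1 from MulEquiv.ext hq₀, one_pow]
  haveI : Finite (P₀ ⋊[actHom (q ^ r) α₀ h₀] Multiplicative (ZMod (q ^ r))) :=
    Finite.of_equiv _ SemidirectProduct.equivProd.symm
  refine ⟨P₀ ⋊[actHom (q ^ r) α₀ h₀] Multiplicative (ZMod (q ^ r)), inferInstance, inferInstance,
    minNon_semidirect hpq hP₀ hα₀ hq₀ r hr h₀, ?_, ?_⟩
  · rw [SemidirectProduct.card, hc₀, Nat.card_congr (Multiplicative.toAdd (α := ZMod (q ^ r))),
      Nat.card_zmod, add_extra, ha₀]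
  · intro X _ _ hX ⟨t, ht⟩
    exact exists_cover hK ha hpq r hr hP₀ hα₀ hq₀ hc₀ h₀ hX ht

end Cfsg.Agent.FGS4.SchmidtUniversal
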