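import Cfsg.Agent.S0132
import Cfsg.Agent.Transfer.Complement
import Cfsg.Agent.FGS4.SchmidtSylow.Abstract
import Mathlib.GroupTheory.SemidirectProduct
import Mathlib.Data.ZMod.Basic

/-! # Minimal non-`p`-nilpotent groups of order `p ^ t * q ^ r` and Schmidt automorphisms -/

set_option linter.style.haveILetI false
set_option linter.unusedSectionVars false

namespace Cfsg.Agent.FGS4.SchmidtUniversal

open Subgroup Cfsg

variable {p q : ℕ} [hp : Fact p.Prime] [hq : Fact q.Prime]

/-- No normal `p`-complement, but every proper subgroup has one. -/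
def MinNon (p : ℕ) (G : Type*) [Group G] : Prop :=
  ¬ HasNormalPComplement p G ∧ ∀ K : Subgroup G, K ≠ ⊤ → HasNormalPComplement p ↥K

theorem orderOf_coprime_of_pow (hpq : p ≠ q) {G : Type*} [Group G] {g : G} {n : ℕ} (h : g ^ q ^ n = 1) :
    (orderOf g).Coprime p :=
  Nat.Coprime.coprime_dvd_left (orderOf_dvd_of_pow_eq_one h)
    (((Nat.coprime_primes hq.out hp.out).2 hpq.symm).pow_left n)

theorem eq_top_of_card_le {G : Type*} [Group G] [Finite G] {H : Subgroup G} (h : Nat.card G ≤ Nat.card H) :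
    H = ⊤ := Subgroup.eq_top_of_card_eq H (le_antisymm (Subgroup.card_le_card_group H) h)

theorem exists_data (hpq : p ≠ q) {X : Type*} [Group X] [Finite X] (hX : MinNon p X) {t r : ℕ}
    (hcard : Nat.card X = p ^ t * q ^ r) :
    ∃ (P : Subgroup X) (_ : P.Normal) (y : X), IsPGroup p P ∧ Nat.card P = p ^ t ∧ orderOf y = q ^ r ∧
      SchmidtSylow.SchmidtAut p (MulAut.conjNormal y : MulAut P) ∧
      (∀ u : P, ((MulAut.conjNormal y : MulAut P) ^ q) u = u) ∧ P ⊔ zpowers y = ⊤ := by
  obtain ⟨hnc, hprop⟩ := hX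
  obtain ⟨PS⟩ := (inferInstance : Nonempty (Sylow p X))
  have hPn : (PS : Subgroup X).Normal := (S0132.result hnc hprop).2.2 PS
  haveI := hPn
  set P := (PS : Subgroup X) with hP
  obtain ⟨QS⟩ := (inferInstance : Nonempty (Sylow q X))
  set Q := (QS : Subgroup X) with hQ
  have hcop : (p ^ t).Coprime (q ^ r) := ((Nat.coprime_primes hp.out hq.out).2 hpq).pow t r
  have hPc : Nat.card P = p ^ t := by
    rw [hP, PS.card_eq_multiplicity, hcard, Nat.factorization_mul (pow_ne_zero _ hp.out.ne_zero) (pow_ne_zero _ hq.out.ne_zero),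
      Finsupp.add_apply, Nat.factorization_pow_self hp.out,
      Nat.factorization_eq_zero_of_not_dvd (fun h =>
        hpq ((Nat.prime_dvd_prime_iff_eq hp.out hq.out).1 (hp.out.dvd_of_dvd_pow h))), add_zero]
  have hQc : Nat.card Q = q ^ r := by
    rw [hQ, QS.card_eq_multiplicity, hcard, Nat.factorization_mul (pow_ne_zero _ hp.out.ne_zero) (pow_ne_zero _ hq.out.ne_zero),
      Finsupp.add_apply, Nat.factorization_pow_self hq.out,
      Nat.factorization_eq_zero_of_not_dvd (fun h =>
        hpq ((Nat.prime_dvd_prime_iff_eq hq.out hp.out).1 (hq.out.dvd_of_dvd_pow h)).symm), zero_add]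
  have hsupQ : P ⊔ Q = ⊤ := eq_top_of_card_le (by
    rw [hcard]
    refine Nat.le_of_dvd Nat.card_pos (hcop.mul_dvd_of_dvd_of_dvd ?_ ?_)
    · rw [← hPc]; exact card_dvd_of_le le_sup_left
    · rw [← hQc]; exact card_dvd_of_le le_sup_right)
  have hyq : ∀ g ∈ Q, (orderOf g).Coprime p := by
    intro g hg
    obtain ⟨n, hn⟩ := QS.isPGroup' ⟨g, hg⟩
    exact orderOf_coprime_of_pow hpq (congrArg Subtype.val hn)
  -- commuting from a proper subgroup
  have key : ∀ N : Subgroup X, IsPGroup p N → ∀ g ∈ normalizer (N : Set X), (orderOf g).Coprime p →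
      N ⊔ zpowers g ≠ ⊤ → g ∈ centralizer (N : Set X) := by
    intro N hN g hg hgp hne
    have hgH : g ∈ N ⊔ zpowers g := mem_sup_right (mem_zpowers g)
    have hc := Transfer.mem_centralizer_of_hasNormalPComplement (hprop _ hne)
      (hN.comap_subtype (K := N ⊔ zpowers g)) (g := (⟨g, hgH⟩ : ↥(N ⊔ zpowers g))) (by
        rw [mem_normalizer_iff]
        intro x
        exact mem_normalizer_iff.mp hg x) (by rw [← Subgroup.orderOf_coe]; exact hgp)
    rw [mem_centralizer_iff]
    intro x hx
    exact congrArg Subtype.val (mem_centralizer_iff.mp hc ⟨x, mem_sup_left hx⟩ hx)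
  have hPnorm : ∀ g : X, g ∈ normalizer (P : Set X) := fun g => by
    rw [normalizer_eq_top P]; exact mem_top g
  obtain ⟨y, hyQ, hyc⟩ : ∃ y ∈ Q, y ∉ centralizer (P : Set X) := by
    by_contra hall
    push Not at hall
    refine hnc (Transfer.hasNormalPComplement_of_frobenius PS fun N hN _ g _ hgp => ?_)
    obtain ⟨u, hu, w, hw, rfl⟩ := (mem_sup_of_normal_left (s := P) (t := Q)).1 (hsupQ ▸ mem_top g)
    -- a `p'`-element has trivial component in `P`
    have hwc : ∀ v ∈ P, v * w = w * v := mem_centralizer_iff.1 (hall w hw)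
    obtain ⟨i, hi⟩ := PS.isPGroup' ⟨u, hu⟩
    obtain ⟨j, hj⟩ := QS.isPGroup' ⟨w, hw⟩
    have hui : u ^ p ^ i = 1 := congrArg Subtype.val hi
    have hwj : w ^ q ^ j = 1 := congrArg Subtype.val hj
    have hcom : Commute u w := hwc u hu
    have hd : orderOf u ∣ orderOf (u * w) := by
      have hco : (orderOf u).Coprime (orderOf w) :=
        ((((Nat.coprime_primes hp.out hq.out).2 hpq).pow i j).coprime_dvd_left
          (orderOf_dvd_of_pow_eq_one hui)).coprime_dvd_right (orderOf_dvd_of_pow_eq_one hwj)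
      rw [hcom.orderOf_mul_eq_mul_orderOf_of_coprime hco]
      exact dvd_mul_right _ _
    have hu1 : u = 1 := orderOf_eq_one_iff.1 (Nat.eq_one_of_dvd_coprimes (hgp.pow_right i) hd
      (orderOf_dvd_of_pow_eq_one hui))
    subst hu1
    rw [one_mul]
    exact centralizer_le hN (hall w hw)
  have htop : P ⊔ zpowers y = ⊤ := by
    by_contra hne
    exact hyc (key P PS.isPGroup' y (hPnorm y) (hyq y hyQ) hne)
  have hdisjQ : ∀ z ∈ P, z ∈ Q → z = 1 := fun z h1 h2 => by
    have hd := (IsPGroup.disjoint_of_ne p q hpq _ _ PS.isPGroup' QS.isPGroup').eq_bot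
    exact mem_bot.1 (hd ▸ mem_inf.2 ⟨h1, h2⟩)
  have hord : orderOf y = q ^ r := by
    refine le_antisymm ?_ ?_
    · rw [← hQc, ← Nat.card_zpowers]; exact Subgroup.card_le_of_le (zpowers_le.2 hyQ)
    · have h1 := Nat.le_of_dvd (Nat.mul_pos Nat.card_pos Nat.card_pos) (Core.card_sup_dvd_mul (zpowers y) P)
      rw [sup_comm, htop, Subgroup.card_top, hcard, hPc, Nat.card_zpowers, mul_comm] at h1
      exact Nat.le_of_mul_le_mul_right h1 (pow_pos hp.out.pos t)
  set α : MulAut P := MulAut.conjNormal y with hα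
  have hαv : ∀ u : P, ((α u : P) : X) = y * u * y⁻¹ := fun u => MulAut.conjNormal_apply y u
  have hyq' : y ^ q ∈ centralizer (P : Set X) := by
    refine key P PS.isPGroup' _ (hPnorm _) (hyq _ (pow_mem hyQ q)) fun e => ?_
    have h1 := Nat.le_of_dvd (Nat.mul_pos Nat.card_pos Nat.card_pos) (Core.card_sup_dvd_mul (zpowers (y ^ q)) P)
    rw [sup_comm, e, Subgroup.card_top, hcard, hPc, Nat.card_zpowers, mul_comm] at h1
    have h2 := Nat.le_of_mul_le_mul_right h1 (pow_pos hp.out.pos t)
    have hr : r ≠ 0 := by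
      rintro rfl
      rw [pow_zero, orderOf_eq_one_iff] at hord
      exact hyc (hord ▸ one_mem _)
    rw [orderOf_pow' y hq.out.ne_zero, hord, Nat.gcd_eq_right (dvd_pow_self q hr)] at h2
    exact absurd h2 (not_le.2 (Nat.div_lt_self (pow_pos hq.out.pos r) hq.out.one_lt))
  refine ⟨P, hPn, y, PS.isPGroup', hPc, hord, ⟨fun N hN hinv u hu => ?_, ⟨q, hq.out, hpq.symm, ?_⟩, ?_⟩, ?_, htop⟩
  · set Ng := N.map P.subtype with hNg
    have hy : y ∈ normalizer (Ng : Set X) := mem_normalizer_fintype (fun v hv => by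
      obtain ⟨v', hv', rfl⟩ := hv
      exact ⟨α v', hinv v' hv', hαv v'⟩)
    have hne : Ng ⊔ zpowers y ≠ ⊤ := by
      intro e
      refine hN (eq_top_iff.2 fun v _ => ?_)
      have hv : (v : X) ∈ Ng ⊔ zpowers y := e ▸ mem_top _
      haveI : Ng.Normal := by
        rw [← normalizer_eq_top_iff, eq_top_iff, ← e]
        exact sup_le le_normalizer (zpowers_le.2 hy)
      obtain ⟨n, hn, z, hz, hnz⟩ := (mem_sup_of_normal_left (s := Ng) (t := zpowers y)).1 hv
      have hnP : n ∈ P := map_subtype_le N hn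
      have hz1 : z = 1 := hdisjQ z (by
        have : z = n⁻¹ * v := by rw [← hnz, inv_mul_cancel_left]
        rw [this]; exact mul_mem (inv_mem hnP) v.2) (zpowers_le.2 hyQ hz)
      rw [hz1, mul_one] at hnz
      obtain ⟨n', hn', hne'⟩ := hn
      have : n' = v := Subtype.ext (hne'.trans hnz)
      exact this ▸ hn'
    have hc := key Ng (PS.isPGroup'.to_le (map_subtype_le N)) y hy (hyq y hyQ) hne
    exact Subtype.ext (by
      rw [hαv, ← mem_centralizer_iff.1 hc (u : X) (mem_map_of_mem _ hu), mul_inv_cancel_right])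
  · intro u
    rw [← map_pow]
    exact Subtype.ext (by
      rw [MulAut.conjNormal_apply, ← mem_centralizer_iff.1 hyq' (u : X) u.2, mul_inv_cancel_right])
  · by_contra hall
    push Not at hall
    exact hyc (mem_centralizer_iff.2 fun u hu => (mul_inv_eq_iff_eq_mul.1 ((hαv ⟨u, hu⟩).symm.trans
      (congrArg Subtype.val (hall ⟨u, hu⟩)))).symm)
  · intro u
    rw [← map_pow]
    exact Subtype.ext (by
      rw [MulAut.conjNormal_apply, ← mem_centralizer_iff.1 hyq' (u : X) u.2, mul_inv_cancel_right])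

/-- Powers of an automorphism indexed by `ZMod n`. -/
def actHom {P : Type*} [Group P] (n : ℕ) [NeZero n] (α : MulAut P) (h : α ^ n = 1) :
    Multiplicative (ZMod n) →* MulAut P :=
  MonoidHom.mk' (fun c => α ^ (Multiplicative.toAdd c).val) fun c d => by
    show α ^ (Multiplicative.toAdd c + Multiplicative.toAdd d).val = _
    rw [ZMod.val_add, ← pow_eq_pow_mod _ h, pow_add]

theorem minNon_semidirect (hpq : p ≠ q) {P : Type*} [Group P] [Finite P] (hP : IsPGroup p P) {α : MulAut P}
    (hα : SchmidtSylow.SchmidtAut p α) (hαq : ∀ u, (α ^ q) u = u) (r : ℕ) (hr : 1 ≤ r) [NeZero (q ^ r)]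
    (h : α ^ q ^ r = 1) : MinNon p (P ⋊[actHom (q ^ r) α h] Multiplicative (ZMod (q ^ r))) := by
  set φ := actHom (q ^ r) α h with hφ
  haveI : Finite (Multiplicative (ZMod (q ^ r))) := inferInstance
  haveI : Finite (P ⋊[φ] Multiplicative (ZMod (q ^ r))) := Finite.of_equiv _ SemidirectProduct.equivProd.symm
  set G := P ⋊[φ] Multiplicative (ZMod (q ^ r)) with hG
  set PR : Subgroup G := (SemidirectProduct.inl : P →* G).range with hPR
  set C : Subgroup G := (SemidirectProduct.inr : Multiplicative (ZMod (q ^ r)) →* G).range with hC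
  haveI hPRn : PR.Normal := by
    rw [hPR, SemidirectProduct.range_inl_eq_ker_rightHom]; infer_instance
  have hPRp : IsPGroup p PR := hP.of_equiv (MonoidHom.ofInjective SemidirectProduct.inl_injective)
  have hCc : Nat.card C = q ^ r := by
    rw [hC, ← Nat.card_congr (MonoidHom.ofInjective SemidirectProduct.inr_injective).toEquiv]
    exact Nat.card_zmod _
  have hone : (Multiplicative.toAdd (Multiplicative.ofAdd (1 : ZMod (q ^ r)))).val = 1 := by
    haveI : Fact (1 < q ^ r) := ⟨Nat.one_lt_pow (by omega) hq.out.one_lt⟩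
    exact ZMod.val_one _
  have hφ1 : φ (Multiplicative.ofAdd 1) = α := by
    show α ^ _ = α
    rw [hone, pow_one]
  have hcard : Nat.card G = Nat.card P * q ^ r := by
    rw [hG, SemidirectProduct.card, Nat.card_congr (Multiplicative.toAdd (α := ZMod (q ^ r))), Nat.card_zmod]
  obtain ⟨k, hk⟩ := IsPGroup.iff_card.1 hP
  have hordC : ∀ c : Multiplicative (ZMod (q ^ r)), c ^ q ^ r = 1 := fun c => by
    have := pow_card_eq_one' (x := c)
    rwa [Nat.card_congr (Multiplicative.toAdd (α := ZMod (q ^ r))), Nat.card_zmod] at this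
  constructor
  · intro hnc
    obtain ⟨v, hv⟩ := hα.nontrivial
    have hy : (SemidirectProduct.inr (Multiplicative.ofAdd (1 : ZMod (q ^ r))) : G) ∈
        centralizer (PR : Set G) :=
      Transfer.mem_centralizer_of_hasNormalPComplement hnc hPRp
        (by rw [normalizer_eq_top PR]; exact mem_top _)
        (orderOf_coprime_of_pow (q := q) hpq (n := r) (by rw [← map_pow, hordC, map_one]))
    have h1 := mem_centralizer_iff.1 hy _ ⟨v, rfl⟩
    apply hv
    have h2 := SemidirectProduct.inl_aut (φ := φ) (Multiplicative.ofAdd (1 : ZMod (q ^ r))) v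
    rw [hφ1, ← h1, map_inv, mul_inv_cancel_right] at h2
    exact SemidirectProduct.inl_injective h2
  intro H hH
  haveI : Finite H := Subtype.finite
  obtain ⟨PH⟩ := (inferInstance : Nonempty (Sylow p H))
  refine Transfer.hasNormalPComplement_of_frobenius PH fun N hN _ g hg hgp => ?_
  -- work in `G`
  set Ng := N.map H.subtype with hNg
  have hNp : IsPGroup p Ng := (PH.isPGroup'.to_le hN).map _
  have hNle : Ng ≤ PR := by
    intro x hx
    obtain ⟨i, hi⟩ := hNp ⟨x, hx⟩
    have hxi : x ^ p ^ i = 1 := congrArg Subtype.val hi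
    rw [hPR, SemidirectProduct.range_inl_eq_ker_rightHom, MonoidHom.mem_ker]
    rw [← orderOf_eq_one_iff]
    refine Nat.eq_one_of_dvd_coprimes (((Nat.coprime_primes hp.out hq.out).2 hpq).pow i r) ?_
      (orderOf_dvd_of_pow_eq_one (hordC _))
    exact orderOf_dvd_of_pow_eq_one (by rw [← map_pow, hxi, map_one])
  have hgq : (g : G) ^ q ^ r = 1 := by
    have hd : orderOf g ∣ q ^ r := by
      refine (hgp.pow_right k).dvd_of_dvd_mul_left ?_
      rw [← Subgroup.orderOf_coe, ← hk, ← hcard]
      exact _root_.orderOf_dvd_natCard _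
    rw [← Subgroup.coe_pow, orderOf_dvd_iff_pow_eq_one.1 hd]; rfl
  -- conjugate `g` into `C`
  have hCsyl : Nat.card C = q ^ (Nat.card G).factorization q := by
    rw [hCc, hcard, hk, Nat.factorization_mul (pow_ne_zero _ hp.out.ne_zero) (pow_ne_zero _ hq.out.ne_zero),
      Finsupp.add_apply, Nat.factorization_pow_self hq.out,
      Nat.factorization_eq_zero_of_not_dvd (fun h =>
        hpq ((Nat.prime_dvd_prime_iff_eq hq.out hp.out).1 (hq.out.dvd_of_dvd_pow h)).symm), zero_add]
  have hgpg : IsPGroup q (zpowers (g : G)) := by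
    obtain ⟨i, -, hi⟩ := (Nat.dvd_prime_pow hq.out).1 (orderOf_dvd_of_pow_eq_one hgq)
    exact IsPGroup.of_card (n := i) (by rw [Nat.card_zpowers, hi])
  obtain ⟨T, hT⟩ := hgpg.exists_le_sylow
  obtain ⟨n, hn⟩ := MulAction.exists_smul_eq G T (Sylow.ofCard C hCsyl)
  have hgC : n * (g : G) * n⁻¹ ∈ C := by
    have h1 : (C : Subgroup G) = (T : Subgroup G).map (MulAut.conj n).toMonoidHom := by
      rw [← Sylow.coe_ofCard C hCsyl, ← hn, Sylow.coe_subgroup_smul]; rfl
    rw [h1]; exact mem_map_of_mem _ (hT (mem_zpowers _))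
  obtain ⟨c, hc⟩ := hgC
  set N' : Subgroup P := (Ng.map (MulAut.conj n).toMonoidHom).comap SemidirectProduct.inl with hN'
  have hgn : (g : G) ∈ normalizer (Ng : Set G) := le_normalizer_map H.subtype (mem_map_of_mem _ hg)
  have hcN : ∀ u ∈ N', φ c u ∈ N' := by
    intro u hu
    obtain ⟨w, hw, hwu⟩ := hu
    refine ⟨g * w * (g : G)⁻¹, (mem_normalizer_iff.1 hgn w).1 hw, ?_⟩
    rw [map_mul, map_mul, map_inv, hwu, SemidirectProduct.inl_aut, map_inv, hc]
    rfl
  suffices hfix : ∀ u ∈ N', φ c u = u by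
    rw [mem_centralizer_iff]
    intro w hw
    refine Subtype.ext ?_
    have hw' : (w : G) ∈ Ng := mem_map_of_mem _ hw
    obtain ⟨u, hu⟩ : n * (w : G) * n⁻¹ ∈ PR := hPRn.conj_mem _ (hNle hw') n
    have huN : u ∈ N' := ⟨w, hw', hu.symm⟩
    have h1 := SemidirectProduct.inl_aut (φ := φ) c u
    rw [hfix u huN, map_inv, hc, hu] at h1
    have h2 := mul_inv_eq_iff_eq_mul.1 h1.symm
    apply (MulAut.conj n).injective
    show (MulAut.conj n) ((w : G) * (g : G)) = (MulAut.conj n) ((g : G) * (w : G))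
    rw [map_mul, map_mul]
    exact h2.symm
  intro u hu
  by_cases hgen : q ∣ (Multiplicative.toAdd c).val
  · obtain ⟨i, hi⟩ := hgen
    show (α ^ (Multiplicative.toAdd c).val) u = u
    rw [hi, pow_mul]
    have hq1 : α ^ q = 1 := MulEquiv.ext fun v => hαq v
    rw [hq1, one_pow]; rfl
  by_cases hN't : N' = ⊤
  · exfalso
    refine hH (eq_top_of_card_le ?_)
    have h1 : Nat.card P ∣ Nat.card H := by
      have h2 : PR ≤ Ng.map (MulAut.conj n).toMonoidHom := by
        rintro _ ⟨v, rfl⟩
        exact (show v ∈ N' from hN't ▸ mem_top v)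
      have h3 := card_dvd_of_le h2
      rw [card_map_of_injective (f := (MulAut.conj n).toMonoidHom) (MulAut.conj n).injective, hPR,
        ← Nat.card_congr (MonoidHom.ofInjective SemidirectProduct.inl_injective).toEquiv] at h3
      exact h3.trans (card_dvd_of_le (map_subtype_le N))
    have h2 : q ^ r ∣ Nat.card H := by
      have hoc : orderOf c = q ^ r := by
        refine Nat.dvd_antisymm (orderOf_dvd_of_pow_eq_one (hordC c)) ?_
        obtain ⟨i, hir, hi⟩ := (Nat.dvd_prime_pow hq.out).1 (orderOf_dvd_of_pow_eq_one (hordC c))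
        rw [hi]
        refine Nat.pow_dvd_pow q (not_lt.1 fun hlt => hgen ?_)
        have h4 : c ^ q ^ (r - 1) = 1 := by
          rw [← orderOf_dvd_iff_pow_eq_one, hi]; exact Nat.pow_dvd_pow q (by omega)
        have h5 : (q ^ (r - 1) • Multiplicative.toAdd c) = 0 := by
          rw [← toAdd_pow, h4, toAdd_one]
        rw [nsmul_eq_mul, ← ZMod.natCast_zmod_val (Multiplicative.toAdd c), ← Nat.cast_mul,
          ZMod.natCast_eq_zero_iff] at h5
        obtain ⟨m, hm⟩ := h5
        refine ⟨m, Nat.eq_of_mul_eq_mul_left (pow_pos hq.out.pos (r - 1)) ?_⟩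
        rw [hm, ← mul_assoc, ← pow_succ, Nat.sub_add_cancel hr]
      have h3 : orderOf (g : G) = q ^ r := by
        refine (((orderOf_injective (MulAut.conj n).toMonoidHom (MulAut.conj n).injective (g : G)).symm.trans
          (congrArg orderOf hc.symm)).trans
          (orderOf_injective (SemidirectProduct.inr : Multiplicative (ZMod (q ^ r)) →* G)
            SemidirectProduct.inr_injective c)).trans hoc
      exact (dvd_of_eq (h3.symm.trans (Subgroup.orderOf_coe g))).trans (_root_.orderOf_dvd_natCard g)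
    rw [hcard]
    refine Nat.le_of_dvd Nat.card_pos (Nat.Coprime.mul_dvd_of_dvd_of_dvd ?_ h1 h2)
    rw [hk]; exact ((Nat.coprime_primes hp.out hq.out).2 hpq).pow _ _
  -- `N'` is invariant under `α`
  obtain ⟨j, hj⟩ : ∃ j, j * (Multiplicative.toAdd c).val % q = 1 := by
    obtain ⟨j, hj⟩ := Nat.exists_mul_mod_eq_one_of_coprime ((hq.out.coprime_iff_not_dvd.2 hgen).symm) hq.out.one_lt
    exact ⟨j, by rw [mul_comm]; exact hj.2⟩
  have hαN : ∀ v ∈ N', α v ∈ N' := by
    intro v hv
    have hq1 : α ^ q = 1 := MulEquiv.ext fun v => hαq v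
    have hpow : ∀ i : ℕ, ((φ c) ^ i) v ∈ N' := by
      intro i
      induction i with
      | zero => exact hv
      | succ i ih => rw [pow_succ', MulAut.mul_apply]; exact hcN _ ih
    have hmem := hpow j
    rw [show φ c = α ^ (Multiplicative.toAdd c).val from rfl, ← pow_mul, mul_comm,
      pow_eq_pow_mod _ hq1, hj, pow_one] at hmem
    exact hmem
  have hfix := hα.proper_fixed N' hN't hαN
  show (α ^ (Multiplicative.toAdd c).val) u = u
  induction (Multiplicative.toAdd c).val with
  | zero => rfl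
  | succ i ih => rw [pow_succ', MulAut.mul_apply, ih, hfix u hu]

end Cfsg.Agent.FGS4.SchmidtUniversal
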