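import Cfsg.Agent.FGS4.SchmidtUniversal.Field
import Mathlib.RingTheory.Polynomial.Cyclotomic.Roots
import Mathlib.RingTheory.PrincipalIdealDomain
import Mathlib.GroupTheory.Perm.Cycle.Type
import Mathlib.Algebra.Module.ZMod

/-! # Irreducible fixed-point-free modules of a cyclic group of prime order -/

set_option linter.style.haveILetI false
set_option linter.unusedSectionVars false

namespace Cfsg.Agent.FGS4.SchmidtUniversal

open Polynomial

variable {p q : ℕ} [hp : Fact p.Prime] [hq : Fact q.Prime]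
  {K : Type*} [Field K] [Finite K] [CharP K p] [Algebra (ZMod p) K] {a : ℕ}
  (hK : Nat.card K = p ^ a) (ha : a = orderOf (p : ZMod q))

include hK ha in
theorem exists_rep {A : Type*} [AddCommGroup A] [Module (ZMod p) A] [Nontrivial A] (f : Module.End (ZMod p) A)
    (hfq : ∀ v, (f ^ q) v = v) (hfix : ∀ v, f v = v → v = 0)
    (hirr : ∀ W : AddSubgroup A, (∀ w ∈ W, f w ∈ W) → W = ⊥ ∨ W = ⊤) :
    ∃ (e : A ≃+ K) (ζ : K), ζ ≠ 1 ∧ ζ ^ q = 1 ∧ ∀ v, e (f v) = ζ * e v := by
  obtain ⟨v₀, hv₀⟩ := exists_ne (0 : A)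
  let ev : (ZMod p)[X] →ₗ[ZMod p] A :=
    (LinearMap.applyₗ v₀).comp (aeval f : (ZMod p)[X] →ₐ[ZMod p] Module.End (ZMod p) A).toLinearMap
  have hev : ∀ g, ev g = aeval f g v₀ := fun g => rfl
  have hevX : ∀ g, ev (X * g) = f (ev g) := fun g => by
    rw [hev, hev, map_mul, aeval_X, Module.End.mul_apply]
  have hevsurj : Function.Surjective ev := by
    have hinv : ∀ w ∈ (LinearMap.range ev).toAddSubgroup, f w ∈ (LinearMap.range ev).toAddSubgroup := by
      rintro _ ⟨g, rfl⟩
      exact ⟨X * g, hevX g⟩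
    rcases hirr _ hinv with h | h
    · have hmem : v₀ ∈ (LinearMap.range ev).toAddSubgroup := ⟨1, by simp [hev]⟩
      rw [h, AddSubgroup.mem_bot] at hmem
      exact absurd hmem hv₀
    · intro v
      have hmem : v ∈ (LinearMap.range ev).toAddSubgroup := h ▸ AddSubgroup.mem_top v
      exact hmem
  let I : Ideal (ZMod p)[X] :=
    { carrier := {g | ev g = 0}
      add_mem' := fun {g h} hg hh => by
        show ev (g + h) = 0
        rw [map_add, hg, hh, add_zero]
      zero_mem' := map_zero ev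
      smul_mem' := fun c g hg => by
        show aeval f (c * g) v₀ = 0
        rw [map_mul, Module.End.mul_apply, ← hev, hg, map_zero] }
  have hI : ∀ g, g ∈ I ↔ ev g = 0 := fun g => Iff.rfl
  have hne : I ≠ ⊤ := fun h => hv₀ (by
    have h1 : ev 1 = 0 := (hI 1).1 (h ▸ Submodule.mem_top)
    simpa [hev] using h1)
  have hprime : I.IsPrime := by
    refine ⟨hne, fun {g h} hgh => ?_⟩
    by_contra hcon
    push Not at hcon
    have hW : ∀ w ∈ (LinearMap.ker (aeval f g)).toAddSubgroup, f w ∈ (LinearMap.ker (aeval f g)).toAddSubgroup := by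
      intro w hw
      show aeval f g (f w) = 0
      have hw0 : aeval f g w = 0 := hw
      rw [show aeval f g (f w) = aeval f (g * X) w by rw [map_mul, aeval_X]; rfl, mul_comm, map_mul, aeval_X,
        Module.End.mul_apply, hw0, map_zero]
    rcases hirr _ hW with hb | ht
    · have : ev h ∈ (LinearMap.ker (aeval f g)).toAddSubgroup := by
        show aeval f g (aeval f h v₀) = 0
        rw [← Module.End.mul_apply, ← map_mul]; exact hgh
      rw [hb, AddSubgroup.mem_bot] at this
      exact hcon.2 this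
    · exact hcon.1 (show aeval f g v₀ = 0 from ht.ge (AddSubgroup.mem_top v₀))
  have hXq : (X ^ q - 1 : (ZMod p)[X]) ∈ I := by
    rw [hI, hev, map_sub, map_pow, aeval_X, map_one, LinearMap.sub_apply, hfq, Module.End.one_apply, sub_self]
  have hX1 : (X - 1 : (ZMod p)[X]) ∉ I := by
    intro h
    rw [hI, hev, map_sub, aeval_X, map_one, LinearMap.sub_apply, Module.End.one_apply, sub_eq_zero] at h
    exact hv₀ (hfix v₀ h)
  have hXne : (X ^ q - 1 : (ZMod p)[X]) ≠ 0 := by
    rw [← C_1]; exact X_pow_sub_C_ne_zero hq.out.pos 1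
  have hIne : I ≠ ⊥ := fun h => hXne (by rw [h] at hXq; exact hXq)
  haveI := hprime
  have hmax : I.IsMaximal := IsPrime.to_maximal_ideal hIne
  obtain ⟨m, hm⟩ := (IsPrincipalIdealRing.principal I).principal
  have hm0 : m ≠ 0 := fun h => hIne (by rw [hm, h]; simp)
  have hmd : m ∣ X ^ q - 1 := by
    rw [hm] at hXq; exact Ideal.mem_span_singleton.1 hXq
  haveI := Fintype.ofFinite Kˣ
  obtain ⟨u, hu⟩ := exists_prime_orderOf_dvd_card' (G := Kˣ) q (dvd_card_units hK ha)
  have hprim : IsPrimitiveRoot (u : K) q := by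
    rw [← hu, ← orderOf_units]; exact IsPrimitiveRoot.orderOf _
  obtain ⟨ζ, hζ⟩ : ∃ ζ : K, aeval ζ m = 0 := by
    have hsp : ((X ^ q - 1 : (ZMod p)[X]).map (algebraMap (ZMod p) K)).Splits := by
      rw [Polynomial.map_sub, Polynomial.map_pow, Polynomial.map_X, Polynomial.map_one]
      exact X_pow_sub_one_splits hprim
    have hd : (m.map (algebraMap (ZMod p) K)).degree ≠ 0 := by
      rw [Polynomial.degree_map]
      intro h
      refine hne (hm.trans (Ideal.span_singleton_eq_top.2 ?_))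
      exact isUnit_iff_degree_eq_zero.2 h
    have hs2 : (m.map (algebraMap (ZMod p) K)).Splits :=
      hsp.of_dvd ((Polynomial.map_ne_zero_iff (algebraMap (ZMod p) K).injective).2 hXne)
        (Polynomial.map_dvd _ hmd)
    obtain ⟨z, hz⟩ := hs2.exists_eval_eq_zero hd
    exact ⟨z, by rwa [eval_map, ← aeval_def] at hz⟩
  have hker : ∀ g, ev g = 0 ↔ aeval ζ g = 0 := by
    have hle : I ≤ RingHom.ker (aeval ζ : (ZMod p)[X] →ₐ[ZMod p] K) := by
      intro g hg
      rw [hm] at hg
      obtain ⟨c, rfl⟩ := Ideal.mem_span_singleton.1 hg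
      rw [RingHom.mem_ker, map_mul, hζ, zero_mul]
    have heq := hmax.eq_of_le (RingHom.ker_ne_top _) hle
    intro g
    rw [← hI, heq, RingHom.mem_ker]
  have hζ1 : ζ ≠ 1 := fun h => hX1 ((hker _).2 (by rw [map_sub, aeval_X, map_one, h, sub_self]))
  have hζq : ζ ^ q = 1 := by
    have h := (hker _).1 ((hI _).1 hXq)
    rwa [map_sub, map_pow, aeval_X, map_one, sub_eq_zero] at h
  have hζsurj := aeval_surjective hK ha hζ1 hζq
  let s : A → K := fun v => aeval ζ (Function.surjInv hevsurj v)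
  have hs : ∀ g, s (ev g) = aeval ζ g := by
    intro g
    rw [← sub_eq_zero, ← map_sub, ← hker, map_sub, Function.surjInv_eq hevsurj, sub_self]
  let e : A →+ K := AddMonoidHom.mk' s fun v w => by
    obtain ⟨g, rfl⟩ := hevsurj v; obtain ⟨h, rfl⟩ := hevsurj w
    rw [← map_add, hs, hs, hs, map_add]
  have hbij : Function.Bijective e := by
    refine ⟨(injective_iff_map_eq_zero e).2 fun v hv => ?_, fun x => ?_⟩
    · obtain ⟨g, rfl⟩ := hevsurj v
      exact (hker g).2 (hs g ▸ hv)
    · obtain ⟨g, rfl⟩ := hζsurj x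
      exact ⟨ev g, hs g⟩
  refine ⟨AddEquiv.ofBijective e hbij, ζ, hζ1, hζq, fun v => ?_⟩
  obtain ⟨g, rfl⟩ := hevsurj v
  show s (f (ev g)) = ζ * s (ev g)
  rw [← hevX, hs, hs, map_mul, aeval_X]

end Cfsg.Agent.FGS4.SchmidtUniversal
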