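import Cfsg.Agent.FGS4.SchmidtSylow.Abstract
import Cfsg.Agent.FGS3.PGroupAut
import Cfsg.Agent.FGS4.SchmidtUniversal.Rep

/-! # The shape of a `p`-group carrying a Schmidt automorphism -/

set_option linter.style.haveILetI false
set_option linter.unusedSectionVars false

namespace Cfsg.Agent.FGS4.SchmidtUniversal

open Subgroup
open scoped commutatorElement

variable {p q : ℕ} [hp : Fact p.Prime] [hq : Fact q.Prime]
  {K : Type*} [Field K] [Finite K] [CharP K p] [Algebra (ZMod p) K] {a : ℕ}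
  (hK : Nat.card K = p ^ a) (ha : a = orderOf (p : ZMod q))

/-- The data attached to the top layer. -/
structure Shape {P : Type*} [Group P] (p a : ℕ) (α : MulAut P) (π : P →* Multiplicative K) (ζ : K) : Prop where
  surj : Function.Surjective π
  act : ∀ x, Multiplicative.toAdd (π (α x)) = ζ * Multiplicative.toAdd (π x)
  central : π.ker ≤ center P
  fixed : ∀ x ∈ π.ker, α x = x
  bound : Nat.card π.ker ≤ p ^ extra a
  proper : ∀ N : Subgroup P, N ≠ ⊤ → (∀ x ∈ N, α x ∈ N) → N ≤ π.ker

include hK ha in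
theorem exists_rep_mul {V : Type*} [CommGroup V] [Nontrivial V] (f : MulAut V) (hexp : ∀ v : V, v ^ p = 1)
    (hfq : ∀ v, (f ^ q) v = v) (hfix : ∀ v, f v = v → v = 1)
    (hirr : ∀ W : Subgroup V, (∀ w ∈ W, f w ∈ W) → W = ⊥ ∨ W = ⊤) :
    ∃ (e : Additive V ≃+ K) (ζ : K), ζ ≠ 1 ∧ ζ ^ q = 1 ∧
      ∀ v, e (Additive.ofMul (f v)) = ζ * e (Additive.ofMul v) := by
  letI : Module (ZMod p) (Additive V) := AddCommGroup.zmodModule (n := p) (G := Additive V) fun v =>
    Additive.toMul.injective (hexp v.toMul)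
  let fE : Module.End (ZMod p) (Additive V) := (MonoidHom.toAdditive f.toMonoidHom).toZModLinearMap p
  have hfE : ∀ v : V, fE (Additive.ofMul v) = Additive.ofMul (f v) := fun v => rfl
  have hfEn : ∀ (n : ℕ) (v : V), (fE ^ n) (Additive.ofMul v) = Additive.ofMul ((f ^ n) v) := by
    intro n
    induction n with
    | zero => intro v; rfl
    | succ n ih => intro v; rw [pow_succ', Module.End.mul_apply, ih, hfE, pow_succ', MulAut.mul_apply]
  haveI : Nontrivial (Additive V) := inferInstance
  obtain ⟨e, ζ, h1, h2, h3⟩ := exists_rep hK ha fE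
    (fun v => by rw [← ofMul_toMul v, hfEn, hfq])
    (fun v hv => Additive.toMul.injective (hfix v.toMul (congrArg Additive.toMul hv)))
    (fun W hW => by
      rcases hirr (AddSubgroup.toSubgroup' W) (fun w hw => hW _ hw) with e1 | e1
      · exact Or.inl ((AddSubgroup.eq_bot_iff_forall _).2 fun w hw => by
          have hm : w.toMul ∈ AddSubgroup.toSubgroup' W := hw
          rw [e1, mem_bot] at hm
          exact Additive.toMul.injective hm)
      · exact Or.inr (eq_top_iff.2 fun w _ => by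
          have hm : w.toMul ∈ AddSubgroup.toSubgroup' W := e1 ▸ mem_top _
          exact hm))
  exact ⟨e, ζ, h1, h2, fun v => by rw [← hfE, h3]⟩

include hK ha in
theorem exists_shape {P : Type*} [Group P] [Finite P] {α : MulAut P} (h : SchmidtSylow.SchmidtAut p α)
    (hP : IsPGroup p P) (hαq : ∀ x, (α ^ q) x = x) :
    ∃ (π : P →* Multiplicative K) (ζ : K), ζ ≠ 1 ∧ ζ ^ q = 1 ∧ Shape p a α π ζ := by
  haveI := SchmidtSylow.nontrivial_of h
  have hΦne : frattini P ≠ ⊤ := by
    obtain ⟨M, hM, -⟩ := (eq_top_or_exists_le_coatom (⊥ : Subgroup P)).resolve_left bot_ne_top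
    exact fun e => hM.1 (top_le_iff.1 (e ▸ (frattini_le_coatom hM)))
  haveI hΦn : (frattini P).Normal := inferInstance
  have hΦcomap : ∀ φ : MulAut P, (frattini P).map φ.toMonoidHom = frattini P := fun φ =>
    characteristic_iff_map_eq.1 inferInstance φ
  have hΦfix := h.proper_fixed _ hΦne SchmidtSylow.characteristic_invariant
  have hΦcen := SchmidtSylow.le_center_of_normal h hP hΦne SchmidtSylow.characteristic_invariant
  set V := P ⧸ frattini P with hV
  let f : MulAut V := QuotientGroup.congr _ _ α (hΦcomap α)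
  have hf : ∀ x : P, f (x : V) = ((α x : P) : V) := fun x => rfl
  have hfn : ∀ (n : ℕ) (x : P), (f ^ n) (x : V) = (((α ^ n) x : P) : V) := by
    intro n
    induction n with
    | zero => intro x; rfl
    | succ n ih => intro x; rw [pow_succ', pow_succ', MulAut.mul_apply, ih, MulAut.mul_apply]; rfl
  letI : CommGroup V := { (inferInstance : Group V) with mul_comm := FGS3.quotient_frattini_comm hP }
  let d : V →* V := MonoidHom.mk' (fun v => v⁻¹ * f v) fun u v => by
    rw [map_mul, mul_inv, mul_mul_mul_comm]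
  have hdsurj : Function.Surjective d := by
    intro v
    obtain ⟨x, rfl⟩ := QuotientGroup.mk_surjective v
    have hle : closure (Set.range fun a => a⁻¹ * α a) ≤ d.range.comap (QuotientGroup.mk' _) := by
      rw [closure_le]
      rintro _ ⟨b, rfl⟩
      exact ⟨(b : V), rfl⟩
    rw [SchmidtSylow.closure_eq_top h hP] at hle
    exact hle (mem_top x)
  have hdinj := Finite.injective_iff_surjective.2 hdsurj
  have hffix : ∀ v : V, f v = v → v = 1 := fun v hv => hdinj (by
    show v⁻¹ * f v = (1 : V)⁻¹ * f 1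
    rw [hv, map_one, inv_mul_cancel, inv_one, one_mul])
  have hirr : ∀ W : Subgroup V, (∀ w ∈ W, f w ∈ W) → W = ⊥ ∨ W = ⊤ := by
    intro W hW
    by_cases hWt : W = ⊤
    · exact Or.inr hWt
    left
    have hne : W.comap (QuotientGroup.mk' (frattini P)) ≠ ⊤ := fun e => hWt (by
      rw [← map_comap_eq_self_of_surjective (QuotientGroup.mk'_surjective _) W, e,
        map_top_of_surjective _ (QuotientGroup.mk'_surjective _)])
    have hfixW := h.proper_fixed _ hne (fun x hx => hW _ hx)
    rw [eq_bot_iff_forall]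
    intro w hw
    obtain ⟨x, rfl⟩ := QuotientGroup.mk_surjective w
    exact hffix _ (by rw [hf, hfixW x hw])
  haveI : Nontrivial V := QuotientGroup.nontrivial_iff.2 hΦne
  obtain ⟨e, ζ, hζ1, hζq, heζ⟩ := exists_rep_mul hK ha f
    (fun v => FGS3.quotient_frattini_pow hP v)
    (fun v => by
      obtain ⟨x, rfl⟩ := QuotientGroup.mk_surjective v
      rw [hfn, hαq]) hffix hirr
  let π : P →* Multiplicative K :=
    (MonoidHom.mk' (fun v : V => Multiplicative.ofAdd (e (Additive.ofMul v))) fun u v => by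
      rw [ofMul_mul, map_add, ofAdd_add]).comp (QuotientGroup.mk' (frattini P))
  have hπ : ∀ x : P, Multiplicative.toAdd (π x) = e (Additive.ofMul (x : V)) := fun x => rfl
  have hker : π.ker = frattini P := by
    ext x
    rw [MonoidHom.mem_ker, ← Multiplicative.toAdd.injective.eq_iff, hπ, toAdd_one,
      e.map_eq_zero_iff, ofMul_eq_zero, QuotientGroup.eq_one_iff]
  have hsurj : Function.Surjective π := by
    intro k
    obtain ⟨x, hx⟩ := QuotientGroup.mk_surjective (e.symm (Multiplicative.toAdd k)).toMul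
    refine ⟨x, Multiplicative.toAdd.injective ?_⟩
    rw [hπ, hx, ofMul_toMul, AddEquiv.apply_symm_apply]
  have hact : ∀ x, Multiplicative.toAdd (π (α x)) = ζ * Multiplicative.toAdd (π x) := fun x => by
    rw [hπ, hπ, ← heζ, hf]
  refine ⟨π, ζ, hζ1, hζq, hsurj, hact, hker.le.trans hΦcen, fun x hx => hΦfix x (hker.le hx), ?_, ?_⟩
  swap
  · intro N hN hinv x hx
    have h1 := hffix (x : V) (by rw [hf, h.proper_fixed N hN hinv x hx])
    rw [hker]
    exact (QuotientGroup.eq_one_iff x).1 h1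
  -- the bound
  by_cases hnc : center P = ⊤
  · have hc : ∀ x y : P, x * y = y * x := fun x y =>
      (mem_center_iff.1 (hnc ▸ mem_top y) x)
    let g : P →* P := MonoidHom.mk' (fun x => x⁻¹ * α x) fun x y => by
      rw [map_mul, mul_inv_rev, hc y⁻¹ x⁻¹]
      simp only [mul_assoc]
      rw [← mul_assoc y⁻¹, hc y⁻¹ (α x), mul_assoc]
    have hgs : Function.Surjective g := by
      rw [← MonoidHom.range_eq_top, eq_top_iff, ← SchmidtSylow.closure_eq_top h hP, closure_le]
      rintro _ ⟨b, rfl⟩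
      exact ⟨b, rfl⟩
    have hb : π.ker = ⊥ := (eq_bot_iff_forall _).2 fun x hx => Finite.injective_iff_surjective.2 hgs (by
      show x⁻¹ * α x = (1 : P)⁻¹ * α 1
      rw [hΦfix x (hker.le hx), map_one, inv_mul_cancel, inv_one, one_mul])
    rw [hb, Subgroup.card_bot]
    exact Nat.one_le_pow _ _ hp.out.pos
  have hD : π.ker ≤ commutator P :=
    (hker.le.trans hΦcen).trans (SchmidtSylow.center_le_commutator h hP hnc)
  have hcc := SchmidtSylow.commutator_le_center h hP
  have hcmem : ∀ x y : P, ⁅x, y⁆ ∈ center P := fun x y =>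
    hcc (commutator_mem_commutator (mem_top x) (mem_top y))
  have hl : ∀ x y z : P, ⁅x * y, z⁆ = ⁅x, z⁆ * ⁅y, z⁆ := by
    intro x y z
    calc ⁅x * y, z⁆ = x * ⁅y, z⁆ * x⁻¹ * ⁅x, z⁆ := by simp only [commutatorElement_def]; group
      _ = ⁅y, z⁆ * ⁅x, z⁆ := by rw [mem_center_iff.1 (hcmem y z) x, mul_inv_cancel_right]
      _ = ⁅x, z⁆ * ⁅y, z⁆ := (mem_center_iff.1 (hcmem y z) _).symm
  have hr : ∀ x y z : P, ⁅x, y * z⁆ = ⁅x, y⁆ * ⁅x, z⁆ := by
    intro x y z
    calc ⁅x, y * z⁆ = ⁅x, y⁆ * (y * ⁅x, z⁆ * y⁻¹) := by simp only [commutatorElement_def]; group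
      _ = ⁅x, y⁆ * ⁅x, z⁆ := by rw [mem_center_iff.1 (hcmem x z) y, mul_inv_cancel_right]
  set s : K → P := fun k => Function.surjInv hsurj (Multiplicative.ofAdd k) with hsdef
  have hs : ∀ k, π (s k) = Multiplicative.ofAdd k := fun k => Function.surjInv_eq hsurj _
  have hswap : ∀ x x' y y' : P, π x = π x' → π y = π y' → ⁅x, y⁆ = ⁅x', y'⁆ := by
    intro x x' y y' hx hy
    obtain ⟨u, hu, rfl⟩ : ∃ u ∈ center P, x = x' * u :=
      ⟨x'⁻¹ * x, hker.le.trans hΦcen (MonoidHom.mem_ker.2 (by rw [map_mul, map_inv, hx, inv_mul_cancel])),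
        (mul_inv_cancel_left _ _).symm⟩
    obtain ⟨v, hv, rfl⟩ : ∃ v ∈ center P, y = y' * v :=
      ⟨y'⁻¹ * y, hker.le.trans hΦcen (MonoidHom.mem_ker.2 (by rw [map_mul, map_inv, hy, inv_mul_cancel])),
        (mul_inv_cancel_left _ _).symm⟩
    have h1 : ∀ z : P, ⁅u, z⁆ = 1 := fun z => commutatorElement_eq_one_iff_mul_comm.2 (mem_center_iff.1 hu z).symm
    have h2 : ∀ z : P, ⁅z, v⁆ = 1 := fun z => commutatorElement_eq_one_iff_mul_comm.2 (mem_center_iff.1 hv z)
    rw [hl, h1, mul_one, hr, h2, mul_one]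
  letI : CommGroup (center P) :=
    { (inferInstance : Group (center P)) with mul_comm := fun x y => Subtype.ext (mem_center_iff.1 y.2 x) }
  let β : K →+ K →+ Additive (center P) :=
    AddMonoidHom.mk' (fun x => AddMonoidHom.mk' (fun y => Additive.ofMul (⟨⁅s x, s y⁆, hcmem _ _⟩ : center P))
      fun y z => Additive.toMul.injective (Subtype.ext (by
        show ⁅s x, s (y + z)⁆ = ⁅s x, s y⁆ * ⁅s x, s z⁆
        rw [hswap (s x) (s x) (s (y + z)) (s y * s z) rfl (by rw [map_mul, hs, hs, hs, ← ofAdd_add]), hr])))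
      fun x z => AddMonoidHom.ext fun y => Additive.toMul.injective (Subtype.ext (by
        show ⁅s (x + z), s y⁆ = ⁅s x, s y⁆ * ⁅s z, s y⁆
        rw [hswap (s (x + z)) (s x * s z) (s y) (s y) (by rw [map_mul, hs, hs, hs, ← ofAdd_add]) rfl, hl]))
  obtain ⟨hb1, hb2⟩ := card_range_le hK ha β hζ1 hζq
    (fun x => Additive.toMul.injective (Subtype.ext (commutatorElement_self (s x))))
    (fun x y => Additive.toMul.injective (Subtype.ext (by
      show ⁅s (ζ * x), s (ζ * y)⁆ = ⁅s x, s y⁆
      have hh : ∀ k, π (s (ζ * k)) = π (α (s k)) := fun k => Multiplicative.toAdd.injective (by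
        rw [hs, hact, hs, toAdd_ofAdd, toAdd_ofAdd])
      rw [hswap _ _ _ _ (hh x) (hh y), ← map_commutatorElement,
        SchmidtSylow.commutator_fixed h hP _ (commutator_mem_commutator (mem_top _) (mem_top _))])))
  set R : Subgroup P := (AddSubgroup.toSubgroup' (β 1).range).map (center P).subtype with hR
  have hcR : commutator P ≤ R := by
    rw [_root_.commutator_def, commutator_le]
    intro x _ y _
    rw [hswap x (s (π x).toAdd) y (s (π y).toAdd) (by rw [hs, ofAdd_toAdd]) (by rw [hs, ofAdd_toAdd])]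
    exact ⟨⟨_, hcmem _ _⟩, hb2 (π x).toAdd (π y).toAdd, rfl⟩
  calc Nat.card π.ker ≤ Nat.card R := Subgroup.card_le_of_le (hD.trans hcR)
    _ = Nat.card (β 1).range := by
      rw [hR, card_map_of_injective (center P).subtype_injective]; rfl
    _ ≤ _ := hb1

end Cfsg.Agent.FGS4.SchmidtUniversal
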